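import Cfsg.Agent.Lib.SimForms.Basic
import Cfsg.Agent.Lib.Classical.AlternatingWitt
import Cfsg.Agent.Lib.Classical.Symplectic
import Mathlib.LinearAlgebra.SymplecticGroup
import Mathlib.FieldTheory.Finite.Basic

/-!
Alternating forms, and symmetric forms in characteristic two.
-/

set_option autoImplicit false

namespace Cfsg.Agent.SimForms

open Matrix
open Cfsg

variable {ι : Type} [Fintype ι] [DecidableEq ι] {F : Type*} [Field F]

/-- Alternating matrices. -/
def IsAltM (A : Matrix ι ι F) : Prop := ∀ v, bl A v v = 0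

theorem IsAltM.of_cong {κ : Type} [Fintype κ] [DecidableEq κ] {A : Matrix ι ι F} {B : Matrix κ κ F}
    (h : Cong A B) (hA : IsAltM A) : IsAltM B := by
  obtain ⟨P, Q, c, -, -, h3⟩ := h
  intro v
  have e := hA (P *ᵥ v)
  rw [bl_mulVec, h3, bl_smul] at e
  exact (mul_eq_zero.1 e).resolve_left c.ne_zero

theorem gsim_J (m : ℕ) : GSim (Matrix.J (Fin m) F) = Cfsg.GSp m F := rfl

theorem isAltM_J (m : ℕ) : IsAltM (Matrix.J (Fin m) F) := fun v => by
  simp [bl, Matrix.J, Matrix.fromBlocks_mulVec, dotProduct, Fintype.sum_sum_type, Matrix.neg_mulVec,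
    mul_comm]

theorem isAltM_iff {A : Matrix ι ι F} :
    IsAltM A ↔ (Matrix.toBilin' A).IsAlt := by
  refine forall_congr' fun v => ?_
  rw [Matrix.toBilin'_apply']
  rfl

theorem toBilin_eq (A : Matrix ι ι F) (u v : ι → F) : Matrix.toBilin' A u v = bl A u v :=
  Matrix.toBilin'_apply' A u v

/-- A hyperbolic basis modulo the radical, in coordinates. -/
theorem exists_hyp_family {A : Matrix ι ι F} (hA : IsAltM A) :
    ∃ (m k : ℕ) (b : Module.Basis ((Fin m ⊕ Fin m) ⊕ Fin k) F (ι → F)),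
      Fintype.card ι = 2 * m + k ∧
      (∀ i j, bl A (b (Sum.inl i)) (b (Sum.inl j)) = -(Matrix.J (Fin m) F i j)) ∧
      (∀ j v, bl A (b (Sum.inr j)) v = 0) := by
  obtain ⟨m, k, b, h1, h2, h3, h4⟩ := Cfsg.Agent.AltForm.exists_basis (isAltM_iff.1 hA)
  refine ⟨m, k, b, ?_, ?_, fun j v => by rw [← toBilin_eq]; exact h4 j v⟩
  · have h := Module.finrank_eq_card_basis b
    rw [Module.finrank_fintype_fun_eq_card] at h
    simp at h
    omega
  · rintro (i | i) (j | j) <;> rw [← toBilin_eq]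
    · rw [h2]; simp [Matrix.J]
    · rw [h1]; simp [Matrix.J, Matrix.one_apply]
    · rw [← (isAltM_iff.1 hA).neg_eq, h1]
      simp [Matrix.J, Matrix.one_apply, eq_comm]
    · rw [h3]; simp [Matrix.J]

theorem det_J_ne (m : ℕ) : (Matrix.J (Fin m) F).det ≠ 0 := by
  rw [SymplecticGroup.det_eq_one (SymplecticGroup.J_mem (Fin m) F)]
  exact one_ne_zero

theorem eq_zero_of_bl_left {A : Matrix ι ι F} (hA : IsUnit A) {x : ι → F} (h : ∀ y, bl A x y = 0) :
    x = 0 := by
  have e : Aᵀ *ᵥ x = 0 := funext fun i => by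
    have := h (Pi.single i 1)
    rw [bl, Matrix.dotProduct_mulVec] at this
    simpa [Matrix.mulVec_transpose] using this
  exact Matrix.mulVec_injective_of_isUnit ((Matrix.isUnit_transpose _).2 hA)
    (e.trans (Matrix.mulVec_zero _).symm)

/-- A non-degenerate alternating matrix is congruent to the standard one. -/
theorem cong_alt {A : Matrix ι ι F} (hu : IsUnit A) (hA : IsAltM A) :
    ∃ m, Fintype.card ι = 2 * m ∧ Cong A (Matrix.J (Fin m) F) := by
  obtain ⟨m, k, b, hn, h1, h2⟩ := exists_hyp_family hA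
  obtain rfl : k = 0 := by
    by_contra hk
    exact b.ne_zero (Sum.inr ⟨0, Nat.pos_of_ne_zero hk⟩) (eq_zero_of_bl_left hu (h2 _))
  exact ⟨m, by omega, cong_of_gram (by simp; omega) A (fun i => b (Sum.inl i)) _ (det_J_ne m) (-1)
    fun i j => by rw [h1]; simp⟩

section CharTwo

variable [CharP F 2] [Finite F]

/-- The standard non-alternating form in even dimension. -/
def a0 (F : Type*) [Field F] (m : ℕ) (h : 0 < m) : Matrix (Fin m ⊕ Fin m) (Fin m ⊕ Fin m) F :=
  Matrix.J (Fin m) F + Matrix.vecMulVec (Pi.single (Sum.inr ⟨0, h⟩) 1) (Pi.single (Sum.inr ⟨0, h⟩) 1)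

/-- The standard non-alternating form in odd dimension. -/
def aOdd (F : Type*) [Field F] (m : ℕ) : Matrix (Unit ⊕ (Fin m ⊕ Fin m)) (Unit ⊕ (Fin m ⊕ Fin m)) F :=
  Matrix.fromBlocks 1 0 0 (Matrix.J (Fin m) F)

/-- The norm vector. -/
theorem exists_norm_vec {A : Matrix ι ι F} (hA : Aᵀ = A) :
    ∃ w : ι → F, ∀ v, (v ⬝ᵥ w) * (v ⬝ᵥ w) = bl A v v := by
  have h2 : (2 : F) = 0 := CharTwo.two_eq_zero
  have hinj : ∀ a b : F, a * a = b * b → a = b := fun a b h =>
    sub_eq_zero.1 (mul_self_eq_zero.1 (by linear_combination h + (b * b - a * b) * h2))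
  choose r hr using fun c : F => FiniteField.isSquare_of_char_two (ringChar.eq F 2) c
  let s : (ι → F) →ₗ[F] F :=
    { toFun := fun v => r (bl A v v)
      map_add' := fun x y => hinj _ _ (by
        rw [← hr, bl_add_left, bl_add_right, bl_add_right, bl_comm hA y x]
        linear_combination hr (bl A x x) + hr (bl A y y) +
          (bl A x y - r (bl A x x) * r (bl A y y)) * h2)
      map_smul' := fun c x => hinj _ _ (by
        rw [← hr, bl_smul_left, bl_smul_right, RingHom.id_apply, smul_eq_mul]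
        linear_combination (c * c) * hr (bl A x x)) }
  refine ⟨fun i => s (Pi.single i 1), fun v => ?_⟩
  have e : v ⬝ᵥ (fun i => s (Pi.single i 1)) = s v := by
    conv_rhs => rw [show v = ∑ i, v i • (Pi.single i 1 : ι → F) by
      ext j; simp [Finset.sum_apply, Pi.single_apply]]
    rw [map_sum]
    simp [dotProduct]
  rw [e]
  exact (hr _).symm

theorem bl_vecMulVec (w u v : ι → F) : bl (Matrix.vecMulVec w w) u v = (u ⬝ᵥ w) * (v ⬝ᵥ w) := by
  rw [bl, Matrix.vecMulVec_mulVec, op_smul_eq_smul, dotProduct_smul, smul_eq_mul, dotProduct_comm w v,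
    mul_comm]

theorem bl_add_mat (A B : Matrix ι ι F) (u v : ι → F) : bl (A + B) u v = bl A u v + bl B u v := by
  simp [bl, Matrix.add_mulVec, dotProduct_add]

theorem not_alt_a0 (m : ℕ) (h : 0 < m) : ¬ IsAltM (a0 F m h) := fun H => by
  have e := H (Pi.single (Sum.inr ⟨0, h⟩) 1)
  rw [a0, bl_add_mat, bl_vecMulVec, isAltM_J] at e
  simp at e

theorem not_alt_aOdd (m : ℕ) : ¬ IsAltM (aOdd F m) := fun H => by
  have e := H (Pi.single (Sum.inl ()) 1)
  rw [bl_single] at e
  simp [aOdd] at e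

theorem a0_symm (m : ℕ) (h : 0 < m) : (a0 F m h)ᵀ = a0 F m h := by
  rw [a0, Matrix.transpose_add, Matrix.J_transpose, Matrix.transpose_vecMulVec]
  congr 1
  ext i j
  simp [CharTwo.neg_eq]

theorem aOdd_symm (m : ℕ) : (aOdd F m)ᵀ = aOdd F m := by
  rw [aOdd, Matrix.fromBlocks_transpose, Matrix.transpose_one, Matrix.transpose_zero,
    Matrix.transpose_zero, Matrix.J_transpose]
  congr 1
  ext i j
  simp [CharTwo.neg_eq]

theorem a0_unit (m : ℕ) (h : 0 < m) : IsUnit (a0 F m h) := by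
  rw [← Matrix.mulVec_injective_iff_isUnit]
  have h2 : (2 : F) = 0 := CharTwo.two_eq_zero
  intro x y e
  obtain ⟨z, hz⟩ : ∃ z, z = x - y := ⟨_, rfl⟩
  have e0 : a0 F m h *ᵥ z = 0 := by rw [hz, Matrix.mulVec_sub, e, sub_self]
  rw [a0, Matrix.add_mulVec, Matrix.vecMulVec_mulVec, op_smul_eq_smul] at e0
  have hz0 : z = 0 := by
    funext i
    rcases i with i | i
    · have := congrFun e0 (Sum.inr i)
      have hzero : z (Sum.inr ⟨0, h⟩) = 0 := by
        have := congrFun e0 (Sum.inl ⟨0, h⟩)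
        simpa [Matrix.J, Matrix.fromBlocks_mulVec, Matrix.neg_mulVec, CharTwo.neg_eq] using this
      simpa [Matrix.J, Matrix.fromBlocks_mulVec, hzero] using this
    · have := congrFun e0 (Sum.inl i)
      simpa [Matrix.J, Matrix.fromBlocks_mulVec, Matrix.neg_mulVec, CharTwo.neg_eq] using this
  rw [hz] at hz0
  exact sub_eq_zero.1 hz0

theorem aOdd_unit (m : ℕ) : IsUnit (aOdd F m) := by
  rw [Matrix.isUnit_iff_isUnit_det, aOdd, Matrix.det_fromBlocks_zero₂₁, Matrix.det_one, one_mul]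
  exact isUnit_iff_ne_zero.2 (det_J_ne m)

/-- Symmetric non-alternating forms are congruent to the standard ones. -/
theorem cong_nonalt {A : Matrix ι ι F} (hu : IsUnit A) (hA : Aᵀ = A) (hna : ¬ IsAltM A) :
    (∃ (m : ℕ) (h : 0 < m), Fintype.card ι = 2 * m ∧ Cong A (a0 F m h)) ∨
      ∃ m : ℕ, Fintype.card ι = 2 * m + 1 ∧ Cong A (aOdd F m) := by
  classical
  have h2 : (2 : F) = 0 := CharTwo.two_eq_zero
  obtain ⟨w, hw⟩ := exists_norm_vec hA
  set B' := A + Matrix.vecMulVec w w with hB'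
  have hB : ∀ u v, bl B' u v = bl A u v + (u ⬝ᵥ w) * (v ⬝ᵥ w) := fun u v => by
    rw [hB', bl_add_mat, bl_vecMulVec]
  have halt : IsAltM B' := fun v => by rw [hB, hw]; linear_combination bl A v v * h2
  have hAB : ∀ u v, bl A u v = bl B' u v + (u ⬝ᵥ w) * (v ⬝ᵥ w) := fun u v => by
    rw [hB]; linear_combination (-(u ⬝ᵥ w) * (v ⬝ᵥ w)) * h2
  obtain ⟨m, k, b, hn, h1, hrad⟩ := exists_hyp_family halt
  have hJ : ∀ i j, bl B' (b (Sum.inl i)) (b (Sum.inl j)) = Matrix.J (Fin m) F i j := fun i j => by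
    rw [h1, CharTwo.neg_eq]
  -- the radical
  have hscal : ∀ x, (∀ v, bl B' x v = 0) → ∀ y, (∀ v, bl B' y v = 0) →
      (y ⬝ᵥ w) • x - (x ⬝ᵥ w) • y = 0 := by
    intro x hx y hy
    refine eq_zero_of_bl_left hu fun v => ?_
    rw [hAB, sub_eq_add_neg, ← neg_smul, bl_add_left, bl_smul_left, bl_smul_left, hx, hy,
      add_dotProduct, smul_dotProduct, smul_dotProduct, smul_eq_mul, smul_eq_mul]
    ring
  have hk : k ≤ 1 := by
    by_contra hk
    obtain ⟨i, j, hij⟩ : ∃ i j : Fin k, i ≠ j :=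
      ⟨⟨0, by omega⟩, ⟨1, by omega⟩, fun e => by simp at e⟩
    have e := hscal _ (hrad i) _ (hrad j)
    rw [sub_eq_add_neg, ← neg_smul] at e
    have h0 := congrArg (fun x => b.repr x (Sum.inr i)) e
    simp [hij.symm] at h0
    have hj0 : bl A (b (Sum.inr j)) = fun _ => (0 : F) := funext fun v => by
      rw [hAB, hrad, h0]; simp
    exact b.ne_zero _ (eq_zero_of_bl_left hu (congrFun hj0))
  rcases Nat.le_one_iff_eq_zero_or_eq_one.1 hk with rfl | rfl
  · left
    have hm : 0 < m := by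
      by_contra hm
      obtain rfl : m = 0 := by omega
      haveI : IsEmpty ι := Fintype.card_eq_zero_iff.1 (by omega)
      exact hna fun v => by simp [bl, dotProduct]
    -- the norm vector in the basis
    set w' : Fin m ⊕ Fin m → F := fun i => b (Sum.inl i) ⬝ᵥ w with hw'
    have hw'0 : w' ≠ 0 := by
      intro e0
      refine hna fun v => ?_
      have hzero : (dotProductBilin F F).flip w = 0 := b.ext fun i => by
        rcases i with i | i
        · exact congrFun e0 i
        · exact i.elim0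
      have := LinearMap.congr_fun hzero v
      rw [← hw, show v ⬝ᵥ w = 0 from this, zero_mul]
    obtain ⟨s, hs⟩ := Cfsg.Agent.ClassicalSp.exists_map_vec hw'0
      (show (Pi.single (Sum.inr ⟨0, hm⟩) 1 : Fin m ⊕ Fin m → F) ≠ 0 by simp)
    have hst : ((s : Matrix (Fin m ⊕ Fin m) (Fin m ⊕ Fin m) F)ᵀ) ∈ Matrix.symplecticGroup (Fin m) F :=
      SymplecticGroup.transpose_mem s.2
    refine ⟨m, hm, by omega, ?_⟩
    have h' : Cong A (Matrix.J (Fin m) F + Matrix.vecMulVec w' w') := by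
      refine cong_of_gram (by simp; omega) A (fun i => b (Sum.inl i)) _ ?_ 1 fun i j => by
        rw [hAB, hJ]; simp [hw', Matrix.vecMulVec_apply]
      intro h0
      have hd : ∀ g : Matrix (Fin m ⊕ Fin m) (Fin m ⊕ Fin m) F, g ∈ Matrix.symplecticGroup (Fin m) F →
          (g * (Matrix.J (Fin m) F + Matrix.vecMulVec w' w') * gᵀ).det = 0 := fun g _ => by
        rw [Matrix.det_mul, Matrix.det_mul, h0, mul_zero, zero_mul]
      have hA0 := hd _ s.2
      rw [Matrix.mul_add, Matrix.add_mul, SymplecticGroup.mem_iff.1 s.2, Matrix.mul_vecMulVec,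
        Matrix.vecMulVec_mul, Matrix.vecMul_transpose, hs] at hA0
      exact ((Matrix.isUnit_iff_isUnit_det _).1 (a0_unit (F := F) m hm)).ne_zero hA0
    refine h'.trans ⟨(s : Matrix (Fin m ⊕ Fin m) (Fin m ⊕ Fin m) F)ᵀ,
      ((s⁻¹ : Matrix.symplecticGroup (Fin m) F) : Matrix (Fin m ⊕ Fin m) (Fin m ⊕ Fin m) F)ᵀ, 1,
      ?_, ?_, ?_⟩
    · rw [← Matrix.transpose_mul, ← Submonoid.coe_mul, inv_mul_cancel, OneMemClass.coe_one,
        Matrix.transpose_one]
    · rw [← Matrix.transpose_mul, ← Submonoid.coe_mul, mul_inv_cancel, OneMemClass.coe_one,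
        Matrix.transpose_one]
    · rw [Matrix.transpose_transpose, Matrix.mul_add, Matrix.add_mul, SymplecticGroup.mem_iff.1 s.2,
        Matrix.mul_vecMulVec, Matrix.vecMulVec_mul, Matrix.vecMul_transpose, hs, Units.val_one, one_smul]
      rfl
  · right
    set x := b (Sum.inr (0 : Fin 1)) with hx
    have hxw : x ⬝ᵥ w ≠ 0 := fun e0 => b.ne_zero (Sum.inr (0 : Fin 1)) (eq_zero_of_bl_left hu
      fun v => by rw [hAB, hrad, ← hx, e0]; ring)
    set u := (x ⬝ᵥ w)⁻¹ • x with hu'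
    have huw : u ⬝ᵥ w = 1 := by rw [hu', smul_dotProduct, smul_eq_mul, inv_mul_cancel₀ hxw]
    have hur : ∀ v, bl B' u v = 0 := fun v => by rw [hu', bl_smul_left, hx, hrad, mul_zero]
    have hur' : ∀ v, bl B' v u = 0 := fun v => by
      have h := halt (v + u)
      rw [bl_add_left, bl_add_right, bl_add_right, hur, hur, halt] at h
      simpa using h
    let f : Unit ⊕ (Fin m ⊕ Fin m) → ι → F :=
      Sum.elim (fun _ => u) fun i => b (Sum.inl i) - (b (Sum.inl i) ⬝ᵥ w) • u
    refine ⟨m, by omega, cong_of_gram (by simp; omega) A f _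
      ((Matrix.isUnit_iff_isUnit_det _).1 (aOdd_unit (F := F) m)).ne_zero 1 fun i j => ?_⟩
    have hf : ∀ i, f (Sum.inr i) ⬝ᵥ w = 0 := fun i => by
      simp only [f, Sum.elim_inr, sub_dotProduct, smul_dotProduct, huw, smul_eq_mul, mul_one, sub_self]
    have hf' : ∀ i j, bl B' (f (Sum.inr i)) (f (Sum.inr j)) = Matrix.J (Fin m) F i j := fun i j => by
      simp only [f, Sum.elim_inr, sub_eq_add_neg, ← neg_smul, bl_add_left, bl_add_right, bl_smul_left,
        bl_smul_right, hur, hur', hJ]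
      ring
    rw [hAB, Units.val_one, one_mul]
    rcases i with ⟨⟩ | i <;> rcases j with ⟨⟩ | j
    · show bl B' u u + u ⬝ᵥ w * (u ⬝ᵥ w) = _
      rw [hur, huw]; simp [aOdd]
    · rw [show f (Sum.inl ()) = u from rfl, hur, hf]; simp [aOdd]
    · rw [show f (Sum.inl ()) = u from rfl, hur', hf]; simp [aOdd]
    · rw [hf', hf]; simp [aOdd]

end CharTwo

end Cfsg.Agent.SimForms
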