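import Cfsg.Agent.Lib.SimForms.Basic
import Cfsg.Agent.Lib.Orthogonal.Frames
import Cfsg.Agent.Lib.Orthogonal.Counts
import Cfsg.Agent.Lib.Orthogonal.Matrix
import Mathlib.LinearAlgebra.SymplecticGroup

/-!
Symmetric forms in odd characteristic.
-/

set_option autoImplicit false

namespace Cfsg.Agent.SimForms

open Matrix QuadraticMap
open Cfsg

variable {ι κ : Type} [Fintype ι] [DecidableEq ι] [Fintype κ] [DecidableEq κ]
  {F : Type*} [Field F]

/-- The quadratic form of a matrix. -/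
noncomputable def qf (A : Matrix ι ι F) : QuadraticForm F (ι → F) := (Matrix.toBilin' A).toQuadraticMap

theorem qf_apply (A : Matrix ι ι F) (v : ι → F) : qf A v = bl A v v := by
  show Matrix.toBilin' A v v = _
  rw [Matrix.toBilin'_apply']
  rfl

theorem polar_qf {A : Matrix ι ι F} (hA : Aᵀ = A) (u v : ι → F) :
    polar (qf A) u v = 2 * bl A u v := by
  simp only [polar, qf_apply, bl_add_left, bl_add_right, bl_comm hA v u]
  ring

theorem eq_zero_of_bl {A : Matrix ι ι F} (hA : IsUnit A) {x : ι → F} (h : ∀ y, bl A y x = 0) :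
    x = 0 := by
  have e : A *ᵥ x = 0 := funext fun i => by simpa [bl] using h (Pi.single i 1)
  exact Matrix.mulVec_injective_of_isUnit hA (e.trans (Matrix.mulVec_zero A).symm)

theorem qf_nondeg (h2 : (2 : F) ≠ 0) {A : Matrix ι ι F} (hu : IsUnit A) (hA : Aᵀ = A) :
    (polarBilin (qf A)).Nondegenerate := Orth.nondeg_of fun x hx => eq_zero_of_bl hu fun y => by
  have h := hx y
  rw [polar_qf hA, bl_comm hA] at h
  exact (mul_eq_zero.1 h).resolve_left h2

/-- Diagonalisation. -/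
theorem exists_diag [Finite F] (h2 : (2 : F) ≠ 0) {k : ℕ} {A : Matrix (Fin (k + 1)) (Fin (k + 1)) F}
    (hu : IsUnit A) (hA : Aᵀ = A) {α : F} (hα : ¬ IsSquare α) :
    ∃ (P : Matrix (Fin (k + 1)) (Fin (k + 1)) F) (δ : F), P.det ≠ 0 ∧ (δ = 1 ∨ δ = α) ∧
      Pᵀ * A * P = Matrix.diagonal (fun i => if i = Fin.last k then δ else 1) := by
  obtain ⟨e, he, h1, hlast⟩ := Orth.exists_normal_frame (qf_nondeg h2 hu hA) h2
    (Module.finrank_fin_fun F) hα
  let P : Matrix (Fin (k + 1)) (Fin (k + 1)) F := Matrix.of fun i j => e j i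
  have hw : ∀ j, P *ᵥ Pi.single j 1 = e j := fun j => by ext i; simp [P]
  have hD : Pᵀ * A * P = Matrix.diagonal (fun i => if i = Fin.last k then qf A (e (Fin.last k)) else 1) :=
    Matrix.ext fun i j => by
    rw [← bl_single (Pᵀ * A * P), ← bl_mulVec, hw, hw, Matrix.diagonal_apply]
    by_cases hij : i = j
    · subst hij
      rw [if_pos rfl, ← qf_apply]
      split_ifs with h
      · rw [h]
      · exact h1 i h
    · rw [if_neg hij]
      have h := he.1 i j hij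
      rw [polar_qf hA] at h
      exact (mul_eq_zero.1 h).resolve_left h2
  refine ⟨P, _, fun h0 => ?_, hlast, hD⟩
  have := congrArg Matrix.det hD
  rw [Matrix.det_mul, h0, mul_zero, Matrix.det_diagonal] at this
  obtain ⟨i, -, hi⟩ := Finset.prod_eq_zero_iff.1 this.symm
  split_ifs at hi
  · exact he.2 _ hi
  · exact one_ne_zero hi

theorem exists_congr_fin [Finite F] (h2 : (2 : F) ≠ 0) {k : ℕ} {A B : Matrix (Fin (k + 1)) (Fin (k + 1)) F}
    (hu : IsUnit A) (hA : Aᵀ = A) (hu' : IsUnit B) (hB : Bᵀ = B) (hsq : IsSquare (A.det * B.det)) :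
    ∃ P : Matrix (Fin (k + 1)) (Fin (k + 1)) F, P.det ≠ 0 ∧ Pᵀ * A * P = B := by
  haveI := Fintype.ofFinite F
  obtain ⟨α, hα⟩ := FiniteField.exists_nonsquare (F := F) (fun h => h2 (by
    haveI := ringChar.of_eq h; exact CharTwo.two_eq_zero))
  obtain ⟨P, δ, hP, hδ, hPA⟩ := exists_diag h2 hu hA hα
  obtain ⟨R, δ', hR, hδ', hRB⟩ := exists_diag h2 hu' hB hα
  have e1 := congrArg Matrix.det hPA
  have e2 := congrArg Matrix.det hRB
  rw [Matrix.det_mul, Matrix.det_mul, Matrix.det_transpose, Matrix.det_diagonal,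
    Finset.prod_ite_eq' Finset.univ (Fin.last k) (fun _ => _)] at e1 e2
  simp only [Finset.mem_univ, if_true] at e1 e2
  have hss : IsSquare (δ * δ') := by
    obtain ⟨s, hs⟩ := hsq
    exact ⟨P.det * R.det * s, by rw [← e1, ← e2]; linear_combination (P.det * R.det) ^ 2 * hs⟩
  have hδδ : δ = δ' := by
    rcases hδ with rfl | rfl <;> rcases hδ' with rfl | rfl
    · rfl
    · exact absurd (by rwa [one_mul] at hss) hα
    · exact absurd (by rwa [mul_one] at hss) hα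
    · rfl
  subst hδδ
  refine ⟨P * R⁻¹, ?_, ?_⟩
  · rw [Matrix.det_mul, Matrix.det_nonsing_inv]
    exact mul_ne_zero hP (by simpa using hR)
  · have hRu : IsUnit R.det := isUnit_iff_ne_zero.2 hR
    calc (P * R⁻¹)ᵀ * A * (P * R⁻¹) = R⁻¹ᵀ * (Pᵀ * A * P) * R⁻¹ := by
          simp only [transpose_mul, Matrix.mul_assoc]
      _ = R⁻¹ᵀ * (Rᵀ * B * R) * R⁻¹ := by rw [hPA, hRB]
      _ = (R * R⁻¹)ᵀ * B * (R * R⁻¹) := by simp only [transpose_mul, Matrix.mul_assoc]
      _ = B := by rw [Matrix.mul_nonsing_inv _ hRu]; simp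

/-- Symmetric forms with discriminants in the same class are congruent. -/
theorem exists_congr_of_det [Finite F] (h2 : (2 : F) ≠ 0) [Nonempty ι] (hcard : Fintype.card κ = Fintype.card ι)
    {A : Matrix ι ι F} {B : Matrix κ κ F} (hu : IsUnit A) (hA : Aᵀ = A) (hu' : IsUnit B) (hB : Bᵀ = B)
    (hsq : IsSquare (A.det * B.det)) :
    ∃ (P : Matrix ι κ F) (Q : Matrix κ ι F), P * Q = 1 ∧ Q * P = 1 ∧ Pᵀ * A * P = B := by
  obtain ⟨k, hk⟩ : ∃ k, Fintype.card ι = k + 1 := ⟨_, (Nat.succ_pred_eq_of_pos Fintype.card_pos).symm⟩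
  obtain ⟨e⟩ : Nonempty (Fin (k + 1) ≃ ι) := Fintype.card_eq.1 (by rw [Fintype.card_fin, hk])
  obtain ⟨e'⟩ : Nonempty (Fin (k + 1) ≃ κ) := Fintype.card_eq.1 (by rw [Fintype.card_fin, hcard, hk])
  obtain ⟨P, hP, hPe⟩ := exists_congr_fin h2
    ((Matrix.isUnit_submatrix_equiv e e).2 hu) (by rw [Matrix.transpose_submatrix, hA])
    ((Matrix.isUnit_submatrix_equiv e' e').2 hu') (by rw [Matrix.transpose_submatrix, hB])
    (by rw [Matrix.det_submatrix_equiv_self, Matrix.det_submatrix_equiv_self]; exact hsq)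
  have hPu : IsUnit P.det := isUnit_iff_ne_zero.2 hP
  refine ⟨P.submatrix e.symm e'.symm, P⁻¹.submatrix e'.symm e.symm, ?_, ?_, ?_⟩
  · rw [Matrix.submatrix_mul_equiv, Matrix.mul_nonsing_inv _ hPu, Matrix.submatrix_one_equiv]
  · rw [Matrix.submatrix_mul_equiv, Matrix.nonsing_inv_mul _ hPu, Matrix.submatrix_one_equiv]
  · have h := congrArg (fun M : Matrix (Fin (k + 1)) (Fin (k + 1)) F => M.submatrix e'.symm e'.symm) hPe
    simp only [Matrix.submatrix_submatrix, Equiv.self_comp_symm, Matrix.submatrix_id_id] at h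
    rw [← h, ← Matrix.submatrix_mul_equiv (Pᵀ * A.submatrix e e) P e'.symm e.symm e'.symm,
      ← Matrix.submatrix_mul_equiv Pᵀ (A.submatrix e e) e'.symm e.symm e.symm,
      Matrix.submatrix_submatrix, Equiv.self_comp_symm, Matrix.submatrix_id_id,
      Matrix.transpose_submatrix]

/-- In odd dimension all symmetric forms are congruent up to a scalar. -/
theorem cong_of_odd [Finite F] (h2 : (2 : F) ≠ 0) (hodd : Odd (Fintype.card ι))
    (hcard : Fintype.card κ = Fintype.card ι)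
    {A : Matrix ι ι F} {B : Matrix κ κ F} (hu : IsUnit A) (hA : Aᵀ = A) (hu' : IsUnit B) (hB : Bᵀ = B) :
    Cong A B := by
  haveI : Nonempty ι := Fintype.card_pos_iff.1 hodd.pos
  have hAd : A.det ≠ 0 := ((Matrix.isUnit_iff_isUnit_det _).1 hu).ne_zero
  have hBd : B.det ≠ 0 := ((Matrix.isUnit_iff_isUnit_det _).1 hu').ne_zero
  let c : Fˣ := Units.mk0 (A.det * B.det) (mul_ne_zero hAd hBd)
  have hc : IsUnit ((c : F) • B) := by
    rw [Matrix.isUnit_iff_isUnit_det, Matrix.det_smul, isUnit_iff_ne_zero]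
    exact mul_ne_zero (pow_ne_zero _ c.ne_zero) hBd
  obtain ⟨j, hj⟩ := hodd
  obtain ⟨P, Q, h1, h2', h3⟩ := exists_congr_of_det h2 hcard hu hA hc
    (by rw [Matrix.transpose_smul, hB])
    ⟨(A.det * B.det) ^ (j + 1), by
      rw [Matrix.det_smul, hcard, hj, Units.val_mk0]; ring⟩
  exact ⟨P, Q, c, h1, h2', h3⟩

theorem cong_of_square [Finite F] (h2 : (2 : F) ≠ 0) [Nonempty ι]
    (hcard : Fintype.card κ = Fintype.card ι)
    {A : Matrix ι ι F} {B : Matrix κ κ F} (hu : IsUnit A) (hA : Aᵀ = A) (hu' : IsUnit B) (hB : Bᵀ = B)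
    (hsq : IsSquare (A.det * B.det)) : Cong A B := by
  obtain ⟨P, Q, h1, h2', h3⟩ := exists_congr_of_det h2 hcard hu hA hu' hB hsq
  exact ⟨P, Q, 1, h1, h2', by rw [Units.val_one, one_smul]; exact h3⟩

/-- The discriminant class is invariant in even dimension. -/
theorem square_of_cong {A : Matrix ι ι F} {B : Matrix κ κ F} (hcard : Fintype.card κ = Fintype.card ι)
    (heven : Even (Fintype.card ι)) (h : Cong A B) : IsSquare (A.det * B.det) := by
  obtain ⟨P, Q, c, -, h2, h3⟩ := h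
  obtain ⟨e⟩ : Nonempty (κ ≃ ι) := Fintype.card_eq.1 hcard
  obtain ⟨d, hd, he⟩ := det_sq_of_cong e Q h2 h3
  obtain ⟨j, hj⟩ := heven
  rw [hcard, hj, pow_add] at he
  have hc : (c : F) ^ j ≠ 0 := pow_ne_zero _ c.ne_zero
  refine ⟨d * A.det / (c : F) ^ j, ?_⟩
  field_simp
  linear_combination A.det * he

/-- Quadratic similitudes are similitudes of the bilinear form. -/
theorem quadSim_eq (h2 : (2 : F) ≠ 0) {M : Matrix ι ι F} (hM : Mᵀ = M) {Q : (ι → F) → F}
    (hQ : ∀ v, bl M v v = 2 * Q v) :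
    Geo.quadSimilarityGroup (F := F) Q = GSim M := by
  ext g
  constructor
  · rintro ⟨c, hc⟩
    refine ⟨c, fun u v => ?_⟩
    have key : ∀ v, bl M ((g : Matrix ι ι F) *ᵥ v) ((g : Matrix ι ι F) *ᵥ v) = (c : F) * bl M v v :=
      fun v => by rw [hQ, hQ, hc]; ring
    have h := key (u + v)
    rw [mulVec_add] at h
    simp only [bl_add_left, bl_add_right, bl_comm hM v u,
      bl_comm hM ((g : Matrix ι ι F) *ᵥ v) ((g : Matrix ι ι F) *ᵥ u), key] at h
    exact mul_left_cancel₀ h2 (by linear_combination h)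
  · rintro ⟨c, hc⟩
    refine ⟨c, fun v => mul_left_cancel₀ h2 ?_⟩
    rw [← hQ, hc, hQ]; ring

theorem projQuot_congr {G H : Subgroup (GL ι F)} (h : G = H) :
    Nonempty (Cfsg.projQuot G ≃* Cfsg.projQuot H) := by subst h; exact ⟨MulEquiv.refl _⟩

/-- The hyperbolic matrix. -/
def mPlus (F : Type*) [Field F] (m : ℕ) : Matrix (Fin m ⊕ Fin m) (Fin m ⊕ Fin m) F :=
  Matrix.fromBlocks 0 1 1 0

theorem mPlus_symm (m : ℕ) : (mPlus F m)ᵀ = mPlus F m := by simp [mPlus, Matrix.fromBlocks_transpose]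

theorem bl_mPlus (m : ℕ) (v : Fin m ⊕ Fin m → F) : bl (mPlus F m) v v = 2 * Cfsg.quadFormPlus m F v := by
  simp only [bl, mPlus, Cfsg.quadFormPlus, dotProduct, Matrix.fromBlocks_mulVec, Fintype.sum_sum_type,
    Sum.elim_inl, Sum.elim_inr, Matrix.one_mulVec, Matrix.zero_mulVec, zero_add, add_zero,
    Function.comp_apply, ← Finset.sum_add_distrib, Finset.mul_sum]
  exact Finset.sum_congr rfl fun i _ => by ring

theorem det_mPlus (m : ℕ) : (mPlus F m).det = (-1) ^ m := by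
  have h : mPlus F m = Matrix.J (Fin m) F * Matrix.fromBlocks 1 0 0 (-1) := by
    simp [mPlus, Matrix.J, Matrix.fromBlocks_multiply]
  rw [h, Matrix.det_mul, SymplecticGroup.det_eq_one (SymplecticGroup.J_mem (Fin m) F), one_mul,
    Matrix.det_fromBlocks_zero₂₁, Matrix.det_one, one_mul, Matrix.det_neg, Matrix.det_one, mul_one,
    Fintype.card_fin]

theorem mPlus_unit (m : ℕ) : IsUnit (mPlus F m) := by
  rw [Matrix.isUnit_iff_isUnit_det, det_mPlus]
  exact (isUnit_one.neg).pow _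

/-- The elliptic matrix. -/
def mMinus (m : ℕ) (a b : F) : Matrix ((Fin m ⊕ Fin m) ⊕ Fin 2) ((Fin m ⊕ Fin m) ⊕ Fin 2) F :=
  Matrix.fromBlocks (mPlus F m) 0 0 !![2, a; a, 2 * b]

theorem mMinus_symm (m : ℕ) (a b : F) : (mMinus m a b)ᵀ = mMinus m a b := by
  rw [mMinus, Matrix.fromBlocks_transpose, mPlus_symm, Matrix.transpose_zero, Matrix.transpose_zero]
  congr 1
  ext i j; fin_cases i <;> fin_cases j <;> rfl

theorem bl_mMinus (m : ℕ) (a b : F) (v : (Fin m ⊕ Fin m) ⊕ Fin 2 → F) :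
    bl (mMinus m a b) v v = 2 * Cfsg.quadFormMinus m F a b v := by
  have h1 := bl_mPlus m (v ∘ Sum.inl)
  simp only [Cfsg.quadFormPlus, Function.comp_apply] at h1
  simp only [bl, mMinus, Cfsg.quadFormMinus, dotProduct, Matrix.fromBlocks_mulVec,
    Fintype.sum_sum_type, Sum.elim_inl, Sum.elim_inr, Matrix.zero_mulVec, zero_add, add_zero,
    Function.comp_apply, Fin.sum_univ_two] at h1 ⊢
  rw [h1]
  simp [Matrix.mulVec, dotProduct, Fin.sum_univ_two, mMinus]
  ring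

theorem det_mMinus (m : ℕ) (a b : F) : (mMinus m a b).det = (-1) ^ (m + 1) * (a ^ 2 - 4 * b) := by
  rw [mMinus, Matrix.det_fromBlocks_zero₂₁, det_mPlus, Matrix.det_fin_two]
  simp
  ring

theorem disc_nonsquare (h2 : (2 : F) ≠ 0) {a b : F}
    (hab : ∀ z₁ z₂ : F, z₁ ^ 2 + a * z₁ * z₂ + b * z₂ ^ 2 = 0 → z₁ = 0 ∧ z₂ = 0) :
    ¬ IsSquare (a ^ 2 - 4 * b) := by
  rintro ⟨s, hs⟩
  refine one_ne_zero (hab ((-a + s) / 2) 1 ?_).2
  field_simp
  linear_combination -hs

theorem mMinus_unit (h2 : (2 : F) ≠ 0) (m : ℕ) {a b : F}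
    (hab : ∀ z₁ z₂ : F, z₁ ^ 2 + a * z₁ * z₂ + b * z₂ ^ 2 = 0 → z₁ = 0 ∧ z₂ = 0) :
    IsUnit (mMinus m a b) := by
  rw [Matrix.isUnit_iff_isUnit_det, det_mMinus]
  refine ((isUnit_one.neg).pow _).mul (isUnit_iff_ne_zero.2 fun h => disc_nonsquare h2 hab ?_)
  rw [h]; exact ⟨0, by ring⟩

/-- The matrix of the odd form. -/
def mOdd (F : Type*) [Field F] (m : ℕ) : Matrix (Unit ⊕ (Fin m ⊕ Fin m)) (Unit ⊕ (Fin m ⊕ Fin m)) F :=
  Matrix.fromBlocks ((2 : F) • 1) 0 0 (mPlus F m)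

theorem mOdd_symm (m : ℕ) : (mOdd F m)ᵀ = mOdd F m := by
  simp [mOdd, Matrix.fromBlocks_transpose, mPlus_symm]

theorem bl_mOdd (m : ℕ) (v : Unit ⊕ (Fin m ⊕ Fin m) → F) :
    bl (mOdd F m) v v = 2 * Cfsg.quadFormOdd m F v := by
  have h1 := bl_mPlus m (v ∘ Sum.inr)
  simp only [Cfsg.quadFormPlus, Function.comp_apply] at h1
  simp only [bl, mOdd, Cfsg.quadFormOdd, dotProduct, Matrix.fromBlocks_mulVec,
    Fintype.sum_sum_type, Sum.elim_inl, Sum.elim_inr, Matrix.zero_mulVec, zero_add, add_zero,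
    Function.comp_apply, Matrix.smul_mulVec, Matrix.one_mulVec, Pi.smul_apply, smul_eq_mul,
    Finset.univ_unique, Finset.sum_singleton] at h1 ⊢
  rw [h1]
  simp only [PUnit.default_eq_unit]
  ring

theorem mOdd_unit (h2 : (2 : F) ≠ 0) (m : ℕ) : IsUnit (mOdd F m) := by
  rw [Matrix.isUnit_iff_isUnit_det, mOdd, Matrix.det_fromBlocks_zero₂₁, det_mPlus, Matrix.det_smul,
    Matrix.det_one, mul_one]
  exact ((isUnit_iff_ne_zero.2 h2).pow _).mul ((isUnit_one.neg).pow _)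

end Cfsg.Agent.SimForms
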