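import Cfsg.Prelude.Def_LieTypeDatum
import Mathlib.LinearAlgebra.Matrix.NonsingularInverse
import Mathlib.LinearAlgebra.Matrix.GeneralLinearGroup.Defs

/-!
Bilinear forms given by matrices up to congruence and scalars, and their similitude groups.
-/

set_option autoImplicit false

namespace Cfsg.Agent.SimForms

open Matrix
open Cfsg

variable {ι κ ν : Type} [Fintype ι] [DecidableEq ι] [Fintype κ] [DecidableEq κ] [Fintype ν]
  [DecidableEq ν] {F : Type*} [Field F]

/-- The bilinear form of a matrix. -/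
def bl (A : Matrix ι ι F) (u v : ι → F) : F := u ⬝ᵥ A *ᵥ v

theorem bl_single (A : Matrix ι ι F) (i j : ι) : bl A (Pi.single i 1) (Pi.single j 1) = A i j := by
  simp [bl]

theorem eq_of_bl {A B : Matrix ι ι F} (h : ∀ u v, bl A u v = bl B u v) : A = B :=
  Matrix.ext fun i j => by rw [← bl_single A, ← bl_single B, h]

theorem bl_mulVec (A : Matrix ι ι F) (P : Matrix ι κ F) (u v : κ → F) :
    bl A (P *ᵥ u) (P *ᵥ v) = bl (Pᵀ * A * P) u v := by
  simp only [bl]
  rw [mulVec_mulVec, Matrix.mul_assoc, ← mulVec_mulVec v Pᵀ, dotProduct_mulVec u Pᵀ, vecMul_transpose]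

theorem bl_smul (A : Matrix ι ι F) (c : F) (u v : ι → F) : bl (c • A) u v = c * bl A u v := by
  simp [bl, Matrix.smul_mulVec, dotProduct_smul]

theorem bl_add_left (A : Matrix ι ι F) (u u' v : ι → F) : bl A (u + u') v = bl A u v + bl A u' v :=
  add_dotProduct _ _ _

theorem bl_add_right (A : Matrix ι ι F) (u v v' : ι → F) : bl A u (v + v') = bl A u v + bl A u v' := by
  simp [bl, mulVec_add, dotProduct_add]

theorem bl_smul_left (A : Matrix ι ι F) (c : F) (u v : ι → F) : bl A (c • u) v = c * bl A u v :=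
  smul_dotProduct _ _ _

theorem bl_smul_right (A : Matrix ι ι F) (c : F) (u v : ι → F) : bl A u (c • v) = c * bl A u v := by
  simp [bl, mulVec_smul, dotProduct_smul]

theorem bl_comm {A : Matrix ι ι F} (hA : Aᵀ = A) (u v : ι → F) : bl A u v = bl A v u := by
  rw [bl, bl, dotProduct_mulVec, ← mulVec_transpose, hA, dotProduct_comm]

/-- The similitudes. -/
abbrev GSim (A : Matrix ι ι F) : Subgroup (GL ι F) := Geo.similarityGroup (bl A)

theorem mem_GSim {A : Matrix ι ι F} {g : GL ι F} :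
    g ∈ GSim A ↔ ∃ c : Fˣ, (g : Matrix ι ι F)ᵀ * A * (g : Matrix ι ι F) = (c : F) • A := by
  constructor
  · rintro ⟨c, hc⟩
    exact ⟨c, eq_of_bl fun u v => by rw [← bl_mulVec, hc, bl_smul]⟩
  · rintro ⟨c, hc⟩
    exact ⟨c, fun u v => by rw [bl_mulVec, hc, bl_smul]⟩

/-- The isometries. -/
def Isom (A : Matrix ι ι F) : Subgroup (GL ι F) where
  carrier := {g | (g : Matrix ι ι F)ᵀ * A * (g : Matrix ι ι F) = A}
  mul_mem' {a b} ha hb := by
    have ha' : (a : Matrix ι ι F)ᵀ * A * (a : Matrix ι ι F) = A := ha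
    have hb' : (b : Matrix ι ι F)ᵀ * A * (b : Matrix ι ι F) = A := hb
    show _ = _
    rw [Units.val_mul, transpose_mul]
    conv_rhs => rw [← hb', ← ha']
    simp only [Matrix.mul_assoc]
  one_mem' := by simp
  inv_mem' {a} ha := by
    have ha' : (a : Matrix ι ι F)ᵀ * A * (a : Matrix ι ι F) = A := ha
    show _ = _
    conv_lhs => rw [← ha']
    calc ((a⁻¹ : GL ι F) : Matrix ι ι F)ᵀ * ((a : Matrix ι ι F)ᵀ * A * (a : Matrix ι ι F)) *
          ((a⁻¹ : GL ι F) : Matrix ι ι F)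
        = ((a : Matrix ι ι F) * ((a⁻¹ : GL ι F) : Matrix ι ι F))ᵀ * A *
          ((a : Matrix ι ι F) * ((a⁻¹ : GL ι F) : Matrix ι ι F)) := by
          simp only [transpose_mul, Matrix.mul_assoc]
      _ = A := by simp [← Units.val_mul]

theorem mem_Isom {A : Matrix ι ι F} {g : GL ι F} :
    g ∈ Isom A ↔ (g : Matrix ι ι F)ᵀ * A * (g : Matrix ι ι F) = A := Iff.rfl

theorem isom_le (A : Matrix ι ι F) : Isom A ≤ GSim A := fun g hg =>
  mem_GSim.2 ⟨1, by rw [Units.val_one, one_smul]; exact hg⟩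

theorem mem_scalars {g : GL ι F} :
    g ∈ Geo.scalars ι F ↔ ∃ a : Fˣ, (g : Matrix ι ι F) = (a : F) • (1 : Matrix ι ι F) :=
  Geo.mem_scalars_iff g

theorem scalar_conj_smul (a : Fˣ) (g : GL ι F) :
    ((Units.map (Matrix.scalar ι : F →+* Matrix ι ι F).toMonoidHom a * g : GL ι F) : Matrix ι ι F) =
      (a : F) • (g : Matrix ι ι F) := by
  show Matrix.scalar ι (a : F) * (g : Matrix ι ι F) = _
  rw [Matrix.scalar_apply, ← Matrix.smul_one_eq_diagonal, smul_mul_assoc, one_mul]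

/-- Congruence up to a scalar. -/
def Cong (A : Matrix ι ι F) (B : Matrix κ κ F) : Prop :=
  ∃ (P : Matrix ι κ F) (Q : Matrix κ ι F) (c : Fˣ), P * Q = 1 ∧ Q * P = 1 ∧ Pᵀ * A * P = (c : F) • B

theorem Cong.refl (A : Matrix ι ι F) : Cong A A := ⟨1, 1, 1, by simp, by simp, by simp⟩

theorem Cong.symm {A : Matrix ι ι F} {B : Matrix κ κ F} (h : Cong A B) : Cong B A := by
  obtain ⟨P, Q, c, h1, h2, h3⟩ := h
  refine ⟨Q, P, c⁻¹, h2, h1, ?_⟩
  have e : Qᵀ * (Pᵀ * A * P) * Q = A := by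
    calc Qᵀ * (Pᵀ * A * P) * Q = (P * Q)ᵀ * A * (P * Q) := by
          simp only [transpose_mul, Matrix.mul_assoc]
      _ = A := by rw [h1]; simp
  rw [h3, Matrix.mul_smul, Matrix.smul_mul] at e
  conv_rhs => rw [← e, smul_smul, ← Units.val_mul, inv_mul_cancel, Units.val_one, one_smul]

theorem Cong.trans {A : Matrix ι ι F} {B : Matrix κ κ F} {C : Matrix ν ν F} (h : Cong A B)
    (h' : Cong B C) : Cong A C := by
  obtain ⟨P, Q, c, h1, h2, h3⟩ := h
  obtain ⟨P', Q', c', h1', h2', h3'⟩ := h'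
  refine ⟨P * P', Q' * Q, c * c', ?_, ?_, ?_⟩
  · calc P * P' * (Q' * Q) = P * (P' * Q') * Q := by simp only [Matrix.mul_assoc]
      _ = 1 := by rw [h1', Matrix.mul_one, h1]
  · calc Q' * Q * (P * P') = Q' * (Q * P) * P' := by simp only [Matrix.mul_assoc]
      _ = 1 := by rw [h2, Matrix.mul_one, h2']
  · calc (P * P')ᵀ * A * (P * P') = P'ᵀ * (Pᵀ * A * P) * P' := by
          simp only [transpose_mul, Matrix.mul_assoc]
      _ = _ := by rw [h3, Matrix.mul_smul, Matrix.smul_mul, h3', smul_smul, Units.val_mul]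

theorem cong_reindex (e : κ ≃ ι) (A : Matrix ι ι F) : Cong A (A.submatrix e e) := by
  refine ⟨(1 : Matrix ι ι F).submatrix id e, (1 : Matrix ι ι F).submatrix e id, 1, ?_, ?_, ?_⟩
  · rw [Matrix.submatrix_mul_equiv, Matrix.one_mul, Matrix.submatrix_id_id]
  · ext i j
    simp [Matrix.mul_apply, Matrix.one_apply]
  · ext i j
    simp [Matrix.mul_apply, Matrix.one_apply]

theorem cong_smul (A : Matrix ι ι F) (c : Fˣ) : Cong A ((c : F) • A) :=
  ⟨1, 1, c⁻¹, by simp, by simp, by simp [smul_smul]⟩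

/-- A family with an invertible Gram matrix gives a congruence. -/
theorem cong_of_gram (hcard : Fintype.card κ = Fintype.card ι) (A : Matrix ι ι F)
    (w : κ → ι → F) (D : Matrix κ κ F) (hD : D.det ≠ 0) (c : Fˣ)
    (h : ∀ i j, bl A (w i) (w j) = (c : F) * D i j) : Cong A D := by
  let P : Matrix ι κ F := Matrix.of fun i j => w j i
  have hw : ∀ j, P *ᵥ Pi.single j 1 = w j := fun j => by ext i; simp [P]
  have he : Pᵀ * A * P = (c : F) • D := Matrix.ext fun i j => by
    rw [← bl_single (Pᵀ * A * P), ← bl_mulVec, hw, hw, h, Matrix.smul_apply, smul_eq_mul]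
  obtain ⟨e⟩ : Nonempty (κ ≃ ι) := Fintype.card_eq.1 hcard
  let P' : Matrix κ κ F := P.submatrix e id
  have hP' : P'.det ≠ 0 := by
    intro h0
    have e1 : (c : F) • D = P'ᵀ * A.submatrix e e * P' := by
      rw [← he]
      ext i j
      simp only [P', Matrix.mul_apply, Matrix.transpose_apply, Matrix.submatrix_apply, id_eq]
      rw [← e.sum_comp]
      exact Finset.sum_congr rfl fun x _ => by rw [← e.sum_comp]
    have e2 := congrArg Matrix.det e1
    rw [Matrix.det_smul, Matrix.det_mul, h0, mul_zero] at e2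
    exact mul_ne_zero (pow_ne_zero _ c.ne_zero) hD e2
  have hu : IsUnit P'.det := isUnit_iff_ne_zero.2 hP'
  refine ⟨P, (P'⁻¹).submatrix id e.symm, c, ?_, ?_, he⟩
  · have e1 : P = P'.submatrix e.symm id := by ext i j; simp [P']
    rw [e1, ← Matrix.submatrix_mul P' P'⁻¹ e.symm id e.symm Function.bijective_id,
      Matrix.mul_nonsing_inv _ hu, Matrix.submatrix_one_equiv]
  · have e1 : P = P'.submatrix e.symm id := by ext i j; simp [P']
    rw [e1, Matrix.submatrix_mul_equiv, Matrix.nonsing_inv_mul _ hu, Matrix.submatrix_id_id]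

theorem det_sq_of_cong {A : Matrix ι ι F} {B : Matrix κ κ F} (e : κ ≃ ι) {P : Matrix ι κ F}
    (Q : Matrix κ ι F) (hQP : Q * P = 1) {c : F} (h : Pᵀ * A * P = c • B) :
    ∃ d : F, d ≠ 0 ∧ c ^ Fintype.card κ * B.det = d ^ 2 * A.det := by
  refine ⟨(P.submatrix e id).det, fun h0 => ?_, ?_⟩
  · have e1 : (Q.submatrix id e) * P.submatrix e id = 1 := by
      rw [Matrix.submatrix_mul_equiv, hQP, Matrix.submatrix_id_id]
    have e2 := congrArg Matrix.det e1
    rw [Matrix.det_mul, h0, mul_zero, Matrix.det_one] at e2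
    exact zero_ne_one e2
  · have e1 : c • B = (P.submatrix e id)ᵀ * A.submatrix e e * P.submatrix e id := by
      rw [← h]
      ext i j
      simp only [Matrix.mul_apply, Matrix.transpose_apply, Matrix.submatrix_apply, id_eq]
      rw [← e.sum_comp]
      exact Finset.sum_congr rfl fun x _ => by rw [← e.sum_comp]
    have e2 := congrArg Matrix.det e1
    rw [Matrix.det_smul, Matrix.det_mul, Matrix.det_mul, Matrix.det_transpose,
      Matrix.det_submatrix_equiv_self] at e2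
    rw [e2]; ring

/-- Transport of matrices. -/
def conjMat (P : Matrix ι κ F) (Q : Matrix κ ι F) (h1 : P * Q = 1) (h2 : Q * P = 1) :
    Matrix ι ι F ≃* Matrix κ κ F where
  toFun M := Q * M * P
  invFun M := P * M * Q
  left_inv M := by
    show P * (Q * M * P) * Q = M
    rw [← Matrix.mul_assoc, ← Matrix.mul_assoc, h1, Matrix.one_mul, Matrix.mul_assoc, h1,
      Matrix.mul_one]
  right_inv M := by
    show Q * (P * M * Q) * P = M
    rw [← Matrix.mul_assoc, ← Matrix.mul_assoc, h2, Matrix.one_mul, Matrix.mul_assoc, h2,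
      Matrix.mul_one]
  map_mul' M N := by
    show Q * (M * N) * P = Q * M * P * (Q * N * P)
    calc Q * (M * N) * P = Q * M * (1 : Matrix ι ι F) * N * P := by simp [Matrix.mul_assoc]
      _ = _ := by rw [← h1]; simp only [Matrix.mul_assoc]

theorem conjMat_apply (P : Matrix ι κ F) (Q : Matrix κ ι F) (h1 : P * Q = 1) (h2 : Q * P = 1)
    (M : Matrix ι ι F) : conjMat P Q h1 h2 M = Q * M * P := rfl

theorem conjMat_gsim {A : Matrix ι ι F} {B : Matrix κ κ F} {P : Matrix ι κ F} {Q : Matrix κ ι F}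
    (h1 : P * Q = 1) (h2 : Q * P = 1) {c : Fˣ} (h3 : Pᵀ * A * P = (c : F) • B) {g : GL ι F}
    (hg : g ∈ GSim A) : Units.mapEquiv (conjMat P Q h1 h2) g ∈ GSim B := by
  obtain ⟨d, hd⟩ := mem_GSim.1 hg
  refine mem_GSim.2 ⟨d, smul_right_injective _ c.ne_zero ?_⟩
  show (c : F) • ((Q * (g : Matrix ι ι F) * P)ᵀ * B * (Q * (g : Matrix ι ι F) * P)) =
    (c : F) • (d : F) • B
  rw [← Matrix.smul_mul, ← Matrix.mul_smul, ← h3]
  calc (Q * (g : Matrix ι ι F) * P)ᵀ * (Pᵀ * A * P) * (Q * (g : Matrix ι ι F) * P)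
      = Pᵀ * ((g : Matrix ι ι F)ᵀ * ((P * Q)ᵀ * A * (P * Q)) * (g : Matrix ι ι F)) * P := by
        simp only [transpose_mul, Matrix.mul_assoc]
    _ = _ := by
        rw [h1, transpose_one, Matrix.one_mul, Matrix.mul_one, hd, Matrix.mul_smul, Matrix.smul_mul,
          h3, smul_smul, smul_smul, mul_comm]

theorem Cong.map_eq {A : Matrix ι ι F} {B : Matrix κ κ F} {P : Matrix ι κ F} {Q : Matrix κ ι F}
    (h1 : P * Q = 1) (h2 : Q * P = 1) {c : Fˣ} (h3 : Pᵀ * A * P = (c : F) • B) :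
    (GSim A).map (Units.mapEquiv (conjMat P Q h1 h2)).toMonoidHom = GSim B := by
  refine le_antisymm ?_ fun g hg => ?_
  · rintro _ ⟨g, hg, rfl⟩
    exact conjMat_gsim h1 h2 h3 hg
  · have h3' : Qᵀ * B * Q = ((c⁻¹ : Fˣ) : F) • A := by
      have e : Qᵀ * ((c : F) • B) * Q = A := by
        rw [← h3]
        calc Qᵀ * (Pᵀ * A * P) * Q = (P * Q)ᵀ * A * (P * Q) := by
              simp only [transpose_mul, Matrix.mul_assoc]
          _ = A := by rw [h1]; simp
      conv_rhs => rw [← e, Matrix.mul_smul, Matrix.smul_mul, smul_smul, ← Units.val_mul,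
        inv_mul_cancel, Units.val_one, one_smul]
    refine ⟨Units.mapEquiv (conjMat Q P h2 h1) g, conjMat_gsim h2 h1 h3' hg, Units.ext ?_⟩
    exact (conjMat P Q h1 h2).apply_symm_apply (g : Matrix κ κ F)

theorem map_scalars (P : Matrix ι κ F) (Q : Matrix κ ι F) (h1 : P * Q = 1) (h2 : Q * P = 1) :
    (Geo.scalars ι F).map (Units.mapEquiv (conjMat P Q h1 h2)).toMonoidHom = Geo.scalars κ F := by
  ext g
  constructor
  · rintro ⟨s, hs, rfl⟩
    obtain ⟨a, ha⟩ := mem_scalars.1 hs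
    refine mem_scalars.2 ⟨a, ?_⟩
    show Q * (s : Matrix ι ι F) * P = _
    rw [ha, Matrix.mul_smul, Matrix.mul_one, Matrix.smul_mul, h2]
  · intro hg
    obtain ⟨a, ha⟩ := mem_scalars.1 hg
    refine ⟨Units.mapEquiv (conjMat Q P h2 h1) g, mem_scalars.2 ⟨a, ?_⟩,
      Units.ext ((conjMat P Q h1 h2).apply_symm_apply (g : Matrix κ κ F))⟩
    show P * (g : Matrix κ κ F) * Q = _
    rw [ha, Matrix.mul_smul, Matrix.mul_one, Matrix.smul_mul, h1]

/-- Congruent forms have isomorphic projective similitude groups. -/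
theorem Cong.iso {A : Matrix ι ι F} {B : Matrix κ κ F} (h : Cong A B) :
    Nonempty (Cfsg.projQuot (GSim A) ≃* Cfsg.projQuot (GSim B)) := by
  obtain ⟨P, Q, c, h1, h2, h3⟩ := h
  let Φ := Units.mapEquiv (conjMat P Q h1 h2)
  let E : ↥(GSim A) ≃* ↥(GSim B) :=
    ((GSim A).equivMapOfInjective Φ.toMonoidHom Φ.injective).trans
      (MulEquiv.subgroupCongr (Cong.map_eq h1 h2 h3))
  refine ⟨QuotientGroup.congr _ _ E ?_⟩
  ext x
  simp only [Subgroup.mem_map, Subgroup.mem_subgroupOf]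
  rw [← map_scalars P Q h1 h2]
  constructor
  · rintro ⟨y, hy, rfl⟩
    exact ⟨(y : GL ι F), hy, rfl⟩
  · rintro ⟨y, hy, e⟩
    refine ⟨E.symm x, ?_, E.apply_symm_apply x⟩
    have : Φ ((E.symm x : ↥(GSim A)) : GL ι F) = (x : GL κ F) :=
      congrArg Subtype.val (E.apply_symm_apply x)
    rwa [show ((E.symm x : ↥(GSim A)) : GL ι F) = y from Φ.injective (this.trans e.symm)]

/-- Determinants of similitudes. -/
def detSub (A : Matrix ι ι F) : Subgroup Fˣ := (GSim A).map Matrix.GeneralLinearGroup.det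

theorem Cong.detSub_eq {A : Matrix ι ι F} {B : Matrix κ κ F} (h : Cong A B) :
    detSub A = detSub B := by
  obtain ⟨P, Q, c, h1, h2, h3⟩ := h
  unfold detSub
  rw [← Cong.map_eq h1 h2 h3, Subgroup.map_map]
  congr 1
  ext g
  show (g : Matrix ι ι F).det = (Q * (g : Matrix ι ι F) * P).det
  exact ((Matrix.det_conj_of_mul_eq_one h2 h1 (N := (g : Matrix ι ι F))).symm :)

/-- A group meeting the scalars trivially and covering. -/
theorem projQuot_equiv_of {G H : Subgroup (GL ι F)} (hle : H ≤ G)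
    (hcov : ∀ g ∈ G, ∃ z ∈ Geo.scalars ι F, z * g ∈ H)
    (hcap : ∀ h ∈ H, h ∈ Geo.scalars ι F → h = 1) :
    Nonempty (Cfsg.projQuot G ≃* ↥H) := by
  let f : ↥H →* Cfsg.projQuot G := (QuotientGroup.mk' _).comp (Subgroup.inclusion hle)
  refine ⟨(MulEquiv.ofBijective f ⟨?_, ?_⟩).symm⟩
  · refine (injective_iff_map_eq_one f).2 fun h e => ?_
    have e' := (QuotientGroup.eq_one_iff _).1 e
    exact Subtype.ext (hcap _ h.2 e')
  · intro x
    obtain ⟨⟨g, hg⟩, rfl⟩ := QuotientGroup.mk_surjective x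
    obtain ⟨z, hz, hzg⟩ := hcov g hg
    refine ⟨⟨z * g, hzg⟩, QuotientGroup.eq.2 ?_⟩
    rw [Subgroup.mem_subgroupOf]
    show (z * g)⁻¹ * g ∈ _
    rw [_root_.mul_inv_rev, mul_assoc]
    have hcomm : z⁻¹ * g = g * z⁻¹ := by
      obtain ⟨a, ha⟩ := mem_scalars.1 (inv_mem hz)
      exact Units.ext (by rw [Units.val_mul, Units.val_mul, ha]; simp)
    rw [hcomm, inv_mul_cancel_left]
    exact inv_mem hz

end Cfsg.Agent.SimForms
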