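import Cfsg.Agent.Lib.SimForms.Alt
import Cfsg.Agent.Lib.SimForms.Odd
import Cfsg.Agent.Lib.Orthogonal.CharTwoOdd
import Cfsg.Agent.Lib.AutPSL.Outer

/-!
The projective similitude groups of the standard forms, multipliers, determinants, orders.
-/

set_option autoImplicit false

namespace Cfsg.Agent.SimForms

open Matrix
open Cfsg

variable {ι : Type} [Fintype ι] [DecidableEq ι] {F : Type*} [Field F]

theorem exists_entry {A : Matrix ι ι F} (hA : A ≠ 0) : ∃ i j, A i j ≠ 0 := by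
  by_contra! h
  exact hA (Matrix.ext h)

theorem smul_cancel {A : Matrix ι ι F} (hA : A ≠ 0) {c d : F} (h : c • A = d • A) : c = d := by
  obtain ⟨i, j, hij⟩ := exists_entry hA
  exact mul_right_cancel₀ hij (congrFun (congrFun h i) j)

theorem scalar_mem_gsim (A : Matrix ι ι F) (a : Fˣ) :
    Units.map (Matrix.scalar ι : F →+* Matrix ι ι F).toMonoidHom a ∈ GSim A :=
  mem_GSim.2 ⟨a * a, by
    show (Matrix.scalar ι (a : F))ᵀ * A * Matrix.scalar ι (a : F) = _
    rw [Matrix.scalar_apply, Matrix.diagonal_transpose, ← Matrix.smul_one_eq_diagonal,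
      Matrix.smul_mul, Matrix.one_mul, Matrix.mul_smul, Matrix.mul_one, smul_smul, Units.val_mul]⟩

/-- When all multipliers are squares the isometries cover the projective group. -/
theorem projQuot_isom {A : Matrix ι ι F} (hA : A ≠ 0) (hsq : ∀ c : F, IsSquare c)
    (h1 : ∀ x : F, x * x = 1 → x = 1) : Nonempty (Cfsg.projQuot (GSim A) ≃* ↥(Isom A)) := by
  refine projQuot_equiv_of (isom_le A) (fun g hg => ?_) fun h hh hs => ?_
  · obtain ⟨c, hc⟩ := mem_GSim.1 hg
    obtain ⟨s, hs⟩ := hsq (c : F)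
    have hs0 : s ≠ 0 := fun e => c.ne_zero (by rw [hs, e, zero_mul])
    refine ⟨_, ⟨(Units.mk0 s hs0)⁻¹, rfl⟩, ?_⟩
    rw [mem_Isom, scalar_conj_smul, Matrix.transpose_smul, Matrix.smul_mul, Matrix.smul_mul,
      Matrix.mul_smul, hc, smul_smul, smul_smul, hs, Units.val_inv_eq_inv_val, Units.val_mk0]
    field_simp
    simp
  · obtain ⟨a, ha⟩ := mem_scalars.1 hs
    refine Units.ext (ha.trans ?_)
    have e : ((a : F) * a) • A = (1 : F) • A := by
      conv_rhs => rw [one_smul, ← mem_Isom.1 hh, ha]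
      rw [Matrix.transpose_smul, Matrix.transpose_one, Matrix.smul_mul, Matrix.one_mul,
        Matrix.mul_smul, Matrix.mul_one, smul_smul]
    rw [h1 _ (smul_cancel hA e), one_smul, Units.val_one]

theorem gsim_mul_eq {A : Matrix ι ι F} {g h : Matrix ι ι F} {c d : F}
    (e2 : gᵀ * A * g = c • A) (e3 : hᵀ * A * h = d • A) : (g * h)ᵀ * A * (g * h) = (c * d) • A := by
  calc (g * h)ᵀ * A * (g * h) = hᵀ * (gᵀ * A * g) * h := by
        simp only [Matrix.transpose_mul, Matrix.mul_assoc]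
    _ = _ := by rw [e2, Matrix.mul_smul, Matrix.smul_mul, e3, smul_smul]

/-- The multiplier. -/
noncomputable def mult {A : Matrix ι ι F} (hA : A ≠ 0) : ↥(GSim A) →* Fˣ :=
  MonoidHom.mk' (fun g => Classical.choose (mem_GSim.1 g.2)) fun g h => Units.ext (smul_cancel hA
    ((Classical.choose_spec (mem_GSim.1 (g * h).2)).symm.trans
      (gsim_mul_eq (Classical.choose_spec (mem_GSim.1 g.2)) (Classical.choose_spec (mem_GSim.1 h.2)))))

theorem mult_spec {A : Matrix ι ι F} (hA : A ≠ 0) (g : ↥(GSim A)) :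
    ((g : GL ι F) : Matrix ι ι F)ᵀ * A * ((g : GL ι F) : Matrix ι ι F) = (mult hA g : F) • A :=
  Classical.choose_spec (mem_GSim.1 g.2)

theorem mult_surjective {A : Matrix ι ι F} (hA : A ≠ 0)
    (h : ∀ c : Fˣ, ∃ g : GL ι F, (g : Matrix ι ι F)ᵀ * A * (g : Matrix ι ι F) = (c : F) • A) :
    Function.Surjective (mult hA) := fun c => by
  obtain ⟨g, hg⟩ := h c
  refine ⟨⟨g, mem_GSim.2 ⟨c, hg⟩⟩, Units.ext (smul_cancel hA ?_)⟩
  rw [← mult_spec]
  exact hg

/-- The order of a projective similitude group with all multipliers. -/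
theorem card_projQuot [Finite F] [Nonempty ι] {A : Matrix ι ι F} (hA : A ≠ 0)
    (hsurj : ∀ c : Fˣ, ∃ g : GL ι F, (g : Matrix ι ι F)ᵀ * A * (g : Matrix ι ι F) = (c : F) • A) :
    Nat.card (Cfsg.projQuot (GSim A)) = Nat.card ↥(Isom A) := by
  have h1 := Subgroup.card_mul_index (mult hA).ker
  rw [Subgroup.index_ker, MonoidHom.range_eq_top.2 (mult_surjective hA hsurj), Subgroup.card_top] at h1
  have hk : Nat.card (mult hA).ker = Nat.card ↥(Isom A) := by
    refine Nat.card_congr ⟨fun g => ⟨g.1.1, ?_⟩, fun g => ⟨⟨g.1, isom_le A g.2⟩, ?_⟩,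
      fun _ => rfl, fun _ => rfl⟩
    · have h := mult_spec hA g.1
      rw [MonoidHom.mem_ker.1 g.2, Units.val_one, one_smul] at h
      exact h
    · refine MonoidHom.mem_ker.2 (Units.ext (smul_cancel hA ?_))
      rw [← mult_spec, Units.val_one, one_smul]
      exact g.2
  have hs : Nat.card ((Geo.scalars ι F).subgroupOf (GSim A)) = Nat.card Fˣ := by
    rw [Nat.card_congr (Subgroup.subgroupOfEquivOfLe (by
      rintro _ ⟨a, rfl⟩; exact scalar_mem_gsim A a)).toEquiv]
    refine (Nat.card_congr (MonoidHom.ofInjective ?_).toEquiv).symm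
    exact Units.map_injective fun a b h => Matrix.scalar_inj.1 h
  have h2 := Subgroup.card_eq_card_quotient_mul_card_subgroup ((Geo.scalars ι F).subgroupOf (GSim A))
  rw [← h1, hs, hk] at h2
  exact Nat.eq_of_mul_eq_mul_right Nat.card_pos h2.symm

theorem J_transpose_mem (m : ℕ) (g : GL (Fin m ⊕ Fin m) F) :
    g ∈ Isom (Matrix.J (Fin m) F) ↔
      (g : Matrix (Fin m ⊕ Fin m) (Fin m ⊕ Fin m) F) ∈ Matrix.symplecticGroup (Fin m) F := by
  rw [mem_Isom, SymplecticGroup.mem_iff']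

/-- Symplectic matrices as units. -/
def spUnits (m : ℕ) (F : Type*) [Field F] :
    Matrix.symplecticGroup (Fin m) F →* GL (Fin m ⊕ Fin m) F :=
  (Units.map (Submonoid.subtype (Matrix.symplecticGroup (Fin m) F))).comp
    (toUnits (G := Matrix.symplecticGroup (Fin m) F)).toMonoidHom

theorem spUnits_coe (m : ℕ) (s : Matrix.symplecticGroup (Fin m) F) :
    (spUnits m F s : Matrix (Fin m ⊕ Fin m) (Fin m ⊕ Fin m) F) = s := rfl

theorem isom_J_equiv (m : ℕ) :
    Nonempty (↥(Matrix.symplecticGroup (Fin m) F) ≃* ↥(Isom (Matrix.J (Fin m) F))) := by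
  refine ⟨MulEquiv.ofBijective ((spUnits m F).codRestrict (Isom (Matrix.J (Fin m) F)) fun s =>
    (J_transpose_mem m _).2 s.2) ⟨fun s t e => ?_, fun g => ?_⟩⟩
  · have := congrArg (fun z : ↥(Isom (Matrix.J (Fin m) F)) =>
      ((z : GL (Fin m ⊕ Fin m) F) : Matrix (Fin m ⊕ Fin m) (Fin m ⊕ Fin m) F)) e
    exact Subtype.ext this
  · exact ⟨⟨_, (J_transpose_mem m _).1 g.2⟩, Subtype.ext (Units.ext rfl)⟩

theorem J_ne_zero {m : ℕ} (hm : 0 < m) : Matrix.J (Fin m) F ≠ 0 := fun e => by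
  have := congrFun (congrFun e (Sum.inr ⟨0, hm⟩)) (Sum.inl ⟨0, hm⟩)
  simp [Matrix.J] at this

theorem exists_mult_J (m : ℕ) (c : Fˣ) : ∃ g : GL (Fin m ⊕ Fin m) F,
    (g : Matrix (Fin m ⊕ Fin m) (Fin m ⊕ Fin m) F)ᵀ * Matrix.J (Fin m) F *
      (g : Matrix (Fin m ⊕ Fin m) (Fin m ⊕ Fin m) F) = (c : F) • Matrix.J (Fin m) F ∧
    Matrix.GeneralLinearGroup.det g = c ^ m := by
  let D : Matrix (Fin m ⊕ Fin m) (Fin m ⊕ Fin m) F := Matrix.fromBlocks ((c : F) • 1) 0 0 1
  have hdet : D.det = (c : F) ^ m := by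
    simp [D, Matrix.det_smul]
  have hu : IsUnit D := by
    rw [Matrix.isUnit_iff_isUnit_det, hdet]; exact c.isUnit.pow _
  refine ⟨hu.unit, ?_, Units.ext ?_⟩
  · show Dᵀ * _ * D = _
    simp [D, Matrix.J, Matrix.fromBlocks_transpose, Matrix.fromBlocks_multiply, Matrix.fromBlocks_smul]
  · show D.det = _
    rw [hdet, Units.val_pow_eq_pow_val]

theorem card_pgsp [Finite F] {m : ℕ} (hm : 0 < m) :
    Nat.card (Cfsg.PGSp m F) = Nat.card F ^ (m ^ 2) *
      ∏ i ∈ Finset.range m, (Nat.card F ^ (2 * (i + 1)) - 1) := by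
  haveI : Nonempty (Fin m ⊕ Fin m) := ⟨Sum.inl ⟨0, hm⟩⟩
  show Nat.card (Cfsg.projQuot (GSim (Matrix.J (Fin m) F))) = _
  rw [card_projQuot (J_ne_zero hm) fun c => (exists_mult_J m c).imp fun _ h => h.1,
    ← ClassicalSp.card_sp]
  obtain ⟨e⟩ := isom_J_equiv (F := F) m
  exact (Nat.card_congr e.toEquiv).symm

section CharTwo

variable [CharP F 2]

theorem sq_one_imp (x : F) (h : x * x = 1) : x = 1 := by
  rcases mul_self_eq_one_iff.1 h with h | h
  · exact h
  · rw [h, CharTwo.neg_eq]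

theorem isSquare_all [Finite F] (c : F) : IsSquare c :=
  FiniteField.isSquare_of_char_two (ringChar.eq F 2) c

theorem projQuot_J [Finite F] {m : ℕ} (hm : 0 < m) :
    Nonempty (Cfsg.projQuot (GSim (Matrix.J (Fin m) F)) ≃* ↥(Matrix.symplecticGroup (Fin m) F)) := by
  obtain ⟨e⟩ := projQuot_isom (J_ne_zero (F := F) hm) isSquare_all sq_one_imp
  obtain ⟨e'⟩ := isom_J_equiv (F := F) m
  exact ⟨e.trans e'.symm⟩

/-- The transvection at the first coordinate. -/
def transv (F : Type*) [Field F] (m : ℕ) (h : 0 < m) : Matrix (Fin m ⊕ Fin m) (Fin m ⊕ Fin m) F :=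
  1 + Matrix.single (Sum.inl ⟨0, h⟩) (Sum.inr ⟨0, h⟩) 1

theorem transv_mem (m : ℕ) (h : 0 < m) : transv F m h ∈ Matrix.symplecticGroup (Fin m) F := by
  rw [SymplecticGroup.mem_iff, transv]
  set E : Matrix (Fin m ⊕ Fin m) (Fin m ⊕ Fin m) F :=
    Matrix.single (Sum.inl ⟨0, h⟩) (Sum.inr ⟨0, h⟩) 1 with hE
  have h1 : E * Matrix.J (Fin m) F = Matrix.single (Sum.inl ⟨0, h⟩) (Sum.inl ⟨0, h⟩) 1 := by
    ext (i | i) (j | j) <;>
      simp [hE, Matrix.mul_apply, Matrix.single, Matrix.J, Matrix.one_apply, ite_and,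
        Fintype.sum_sum_type, eq_comm]
  have h2 : Matrix.J (Fin m) F * Eᵀ = -(E * Matrix.J (Fin m) F) := by
    have e : Matrix.J (Fin m) F * Eᵀ = -((E * Matrix.J (Fin m) F)ᵀ) := by
      rw [Matrix.transpose_mul, Matrix.J_transpose, Matrix.neg_mul, neg_neg]
    rw [e, h1, Matrix.transpose_single]
  have h3 : E * Matrix.J (Fin m) F * Eᵀ = 0 := by
    rw [h1, hE, Matrix.transpose_single, Matrix.single_mul_single_of_ne]
    simp
  rw [Matrix.transpose_add, Matrix.transpose_one, Matrix.add_mul, Matrix.one_mul, Matrix.mul_add,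
    Matrix.mul_one, Matrix.add_mul, h2, h3, add_zero, add_assoc, ← sub_eq_add_neg]
  abel

theorem transv_isTransvection (m : ℕ) (h : 0 < m) : Cfsg.IsTransvection (transv F m h) := by
  rw [Cfsg.IsTransvection, transv, add_sub_cancel_left]
  constructor
  · rw [Matrix.single_eq_single_vecMulVec_single]
    refine le_antisymm (Matrix.rank_vecMulVec_le _ _) ?_
    rw [Nat.one_le_iff_ne_zero]
    intro e0
    have e := LinearMap.range_eq_bot.1 (Submodule.finrank_eq_zero.1 e0)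
    have := congrFun (LinearMap.congr_fun e (Pi.single (Sum.inr ⟨0, h⟩) 1)) (Sum.inl ⟨0, h⟩)
    simp [Matrix.vecMulVec_apply] at this
  · exact Matrix.single_mul_single_of_ne _ _ _ _ (by simp) _

theorem isom_a0_iff [Finite F] (m : ℕ) (h : 0 < m) (g : GL (Fin m ⊕ Fin m) F) :
    g ∈ Isom (a0 F m h) ↔
      (g : Matrix (Fin m ⊕ Fin m) (Fin m ⊕ Fin m) F) ∈ Matrix.symplecticGroup (Fin m) F ∧
      (g : Matrix (Fin m ⊕ Fin m) (Fin m ⊕ Fin m) F)ᵀ *ᵥ Pi.single (Sum.inr ⟨0, h⟩) 1 =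
        Pi.single (Sum.inr ⟨0, h⟩) 1 := by
  set f : Fin m ⊕ Fin m → F := Pi.single (Sum.inr ⟨0, h⟩) 1 with hf
  set M := (g : Matrix (Fin m ⊕ Fin m) (Fin m ⊕ Fin m) F) with hM
  have he : Mᵀ * a0 F m h * M = Mᵀ * Matrix.J (Fin m) F * M + Matrix.vecMulVec (Mᵀ *ᵥ f) (Mᵀ *ᵥ f) := by
    rw [a0, Matrix.mul_add, Matrix.add_mul, Matrix.mul_vecMulVec, Matrix.vecMulVec_mul,
      ← Matrix.mulVec_transpose]
  rw [mem_Isom, ← hM, he, SymplecticGroup.mem_iff']
  constructor
  · intro H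
    have hfix : Mᵀ *ᵥ f = f := by
      funext i
      refine sub_eq_zero.1 (mul_self_eq_zero.1 ?_)
      have h1 := congrArg (fun X => bl X (Pi.single i 1) (Pi.single i 1)) H
      have hz : bl (Mᵀ * Matrix.J (Fin m) F * M) (Pi.single i 1) (Pi.single i 1) = 0 := by
        rw [← bl_mulVec]; exact isAltM_J m _
      simp only [a0, bl_add_mat, bl_vecMulVec, hz, isAltM_J (F := F) m (Pi.single i 1),
        single_dotProduct, one_mul, zero_add, ← hf] at h1
      linear_combination h1 + (f i * f i - (Mᵀ *ᵥ f) i * f i) * (CharTwo.two_eq_zero (R := F))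
    refine ⟨?_, hfix⟩
    rw [hfix, a0] at H
    exact add_right_cancel H
  · rintro ⟨H1, H2⟩
    rw [H1, H2]; rfl

theorem projQuot_a0 [Finite F] (m : ℕ) (h : 0 < m) :
    Nonempty (Cfsg.projQuot (GSim (a0 F m h)) ≃*
      ↥(Subgroup.centralizer ({⟨transv F m h, transv_mem m h⟩} :
        Set ↥(Matrix.symplecticGroup (Fin m) F)))) := by
  have hne : a0 F m h ≠ 0 := fun e => not_alt_a0 (F := F) m h fun v => by rw [e]; simp [bl]
  obtain ⟨e⟩ := projQuot_isom hne isSquare_all sq_one_imp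
  set i₀ : Fin m ⊕ Fin m := Sum.inl ⟨0, h⟩ with hi₀
  set i₁ : Fin m ⊕ Fin m := Sum.inr ⟨0, h⟩ with hi₁
  have hiff : ∀ s : ↥(Matrix.symplecticGroup (Fin m) F),
      s ∈ Subgroup.centralizer ({⟨transv F m h, transv_mem m h⟩} : Set _) ↔
        spUnits m F s ∈ Isom (a0 F m h) := by
    intro s
    rw [Subgroup.mem_centralizer_singleton_iff, isom_a0_iff, spUnits_coe, ← hi₁]
    set M : Matrix (Fin m ⊕ Fin m) (Fin m ⊕ Fin m) F := (s : Matrix (Fin m ⊕ Fin m) (Fin m ⊕ Fin m) F) with hM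
    rw [Subtype.ext_iff, Submonoid.coe_mul, Submonoid.coe_mul, ← hM]
    simp only [s.2, true_and, transv, ← hi₀, ← hi₁, Matrix.mul_add, Matrix.mul_one, Matrix.add_mul,
      Matrix.one_mul, add_right_inj, hM.symm ▸ s.2]
    rw [Matrix.single_eq_single_vecMulVec_single, Matrix.mul_vecMulVec, Matrix.vecMulVec_mul,
      ← Matrix.mulVec_transpose]
    have hJf : Matrix.J (Fin m) F *ᵥ Pi.single i₀ 1 = Pi.single i₁ 1 := by
      funext i
      rcases i with i | i <;>
        simp [hi₀, hi₁, Matrix.J, Matrix.fromBlocks, Matrix.one_apply, Pi.single_apply]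
    have hsymp : Mᵀ * Matrix.J (Fin m) F * M = Matrix.J (Fin m) F := SymplecticGroup.mem_iff'.1 s.2
    have hMu : IsUnit Mᵀ := (Matrix.isUnit_transpose _).2 (spUnits m F s).isUnit
    have hlink : Mᵀ *ᵥ (Matrix.J (Fin m) F *ᵥ (M *ᵥ Pi.single i₀ 1)) = Pi.single i₁ 1 := by
      rw [Matrix.mulVec_mulVec, Matrix.mulVec_mulVec, hsymp, hJf]
    constructor
    · intro H
      set a := (Mᵀ *ᵥ Pi.single i₁ 1 : Fin m ⊕ Fin m → F) i₁ with ha
      have hcol : M *ᵥ Pi.single i₀ 1 = a • Pi.single i₀ 1 := by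
        funext i
        have := congrFun (congrFun H i) i₁
        simp only [Matrix.vecMulVec_apply, Pi.single_eq_same, mul_one] at this
        rw [this, Pi.smul_apply, smul_eq_mul, ← ha, mul_comm]
      rw [hcol, Matrix.mulVec_smul, hJf, Matrix.mulVec_smul] at hlink
      have haa : a * a = 1 := by
        have hh := congrFun hlink i₁
        rwa [Pi.smul_apply, smul_eq_mul, ← ha, Pi.single_eq_same] at hh
      rw [sq_one_imp a haa, one_smul] at hlink
      exact hlink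
    · intro H
      have hcol : M *ᵥ Pi.single i₀ 1 = Pi.single i₀ 1 :=
        Matrix.mulVec_injective_of_isUnit
          ((Matrix.isUnit_iff_isUnit_det _).2 (isUnit_iff_ne_zero.2 (det_J_ne (F := F) m)))
          ((Matrix.mulVec_injective_of_isUnit hMu (hlink.trans H.symm)).trans hJf.symm)
      rw [hcol, H]
  let f : ↥(Subgroup.centralizer ({⟨transv F m h, transv_mem m h⟩} :
      Set ↥(Matrix.symplecticGroup (Fin m) F))) →* ↥(Isom (a0 F m h)) :=
    ((spUnits m F).comp (Subgroup.subtype _)).codRestrict _ fun s => (hiff s.1).1 s.2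
  refine ⟨e.trans (MulEquiv.ofBijective f ⟨fun s t est => ?_, fun g => ?_⟩).symm⟩
  · exact Subtype.ext (Subtype.ext (congrArg (fun z : ↥(Isom (a0 F m h)) =>
      ((z : GL (Fin m ⊕ Fin m) F) : Matrix (Fin m ⊕ Fin m) (Fin m ⊕ Fin m) F)) est))
  · have hg := ((isom_a0_iff m h _).1 g.2).1
    exact ⟨⟨⟨_, hg⟩, (hiff ⟨_, hg⟩).2 g.2⟩, Subtype.ext (Units.ext rfl)⟩

/-- The odd-dimensional standard form. -/
theorem projQuot_aOdd [Finite F] (m : ℕ) :
    Nonempty (Cfsg.projQuot (GSim (aOdd F m)) ≃* Cfsg.PGO F (Cfsg.quadFormOdd m F)) := by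
  have hne : aOdd F m ≠ 0 := fun e => not_alt_aOdd (F := F) m fun v => by rw [e]; simp [bl]
  obtain ⟨e⟩ := projQuot_isom hne isSquare_all sq_one_imp
  -- isometries of the bilinear form are block diagonal
  let f : ↥(Matrix.symplecticGroup (Fin m) F) →* GL (Unit ⊕ (Fin m ⊕ Fin m)) F :=
    MonoidHom.toHomUnits
      { toFun := fun s : ↥(Matrix.symplecticGroup (Fin m) F) =>
          Matrix.fromBlocks (1 : Matrix Unit Unit F) 0 0 (s : Matrix (Fin m ⊕ Fin m) (Fin m ⊕ Fin m) F)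
        map_one' := by simp
        map_mul' := fun s t => by simp [Matrix.fromBlocks_multiply] }
  have hf : ∀ s, f s ∈ Isom (aOdd F m) := fun s => by
    rw [mem_Isom]
    show (Matrix.fromBlocks _ _ _ _)ᵀ * _ * Matrix.fromBlocks _ _ _ _ = _
    simp [aOdd, Matrix.fromBlocks_transpose, Matrix.fromBlocks_multiply, SymplecticGroup.mem_iff'.1 s.2]
  have hbij : Function.Bijective (f.codRestrict _ hf) := by
    refine ⟨fun s t est => Subtype.ext ?_, fun g => ?_⟩
    · have := congrArg (fun z : ↥(Isom (aOdd F m)) =>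
        ((z : GL (Unit ⊕ (Fin m ⊕ Fin m)) F) : Matrix (Unit ⊕ (Fin m ⊕ Fin m)) (Unit ⊕ (Fin m ⊕ Fin m)) F).toBlocks₂₂) est
      simpa [f] using this
    · set G := ((g : GL (Unit ⊕ (Fin m ⊕ Fin m)) F) : Matrix (Unit ⊕ (Fin m ⊕ Fin m)) (Unit ⊕ (Fin m ⊕ Fin m)) F) with hG
      have hiso : Gᵀ * aOdd F m * G = aOdd F m := g.2
      have hbl : ∀ v, (v (Sum.inl ()) : F) * v (Sum.inl ()) = bl (aOdd F m) v v := fun v => by
        have hj := isAltM_J (F := F) m (v ∘ Sum.inr)
        simp only [bl, dotProduct, Function.comp_apply, Fintype.sum_sum_type] at hj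
        simp only [bl, aOdd, dotProduct, Matrix.fromBlocks_mulVec, Fintype.sum_sum_type, Sum.elim_inl,
          Sum.elim_inr, Matrix.zero_mulVec, zero_add, add_zero, Matrix.one_mulVec, Function.comp_apply,
          Finset.univ_unique, Finset.sum_singleton]
        rw [hj, add_zero]
      have hrow : ∀ v, (G *ᵥ v) (Sum.inl ()) = v (Sum.inl ()) := fun v => by
        refine sub_eq_zero.1 (mul_self_eq_zero.1 ?_)
        have h1 : (G *ᵥ v) (Sum.inl ()) * (G *ᵥ v) (Sum.inl ()) = v (Sum.inl ()) * v (Sum.inl ()) := by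
          rw [hbl, hbl, bl_mulVec, hiso]
        linear_combination h1 + (v (Sum.inl ()) * v (Sum.inl ()) - (G *ᵥ v) (Sum.inl ()) * v (Sum.inl ())) *
          (CharTwo.two_eq_zero (R := F))
      have h11 : G.toBlocks₁₁ = 1 := Matrix.ext fun i j => by
        have := hrow (Pi.single (Sum.inl j) 1)
        simpa [Matrix.toBlocks₁₁] using this
      have h12 : G.toBlocks₁₂ = 0 := Matrix.ext fun i j => by
        have := hrow (Pi.single (Sum.inr j) 1)
        simpa [Matrix.toBlocks₁₂] using this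
      have hGe : G = Matrix.fromBlocks 1 0 G.toBlocks₂₁ G.toBlocks₂₂ := by
        conv_lhs => rw [← Matrix.fromBlocks_toBlocks G, h11, h12]
      rw [hGe, aOdd, Matrix.fromBlocks_transpose, Matrix.fromBlocks_multiply,
        Matrix.fromBlocks_multiply, Matrix.fromBlocks_inj] at hiso
      simp at hiso
      obtain ⟨-, h21, -, h22⟩ := hiso
      have hmem : G.toBlocks₂₂ ∈ Matrix.symplecticGroup (Fin m) F := SymplecticGroup.mem_iff'.2 h22
      have h21' : G.toBlocks₂₁ = 0 := by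
        have hu : IsUnit (G.toBlocks₂₂ᵀ * Matrix.J (Fin m) F) := by
          refine ((Matrix.isUnit_transpose _).2 ?_).mul
            ((Matrix.isUnit_iff_isUnit_det _).2 (isUnit_iff_ne_zero.2 (det_J_ne m)))
          rw [Matrix.isUnit_iff_isUnit_det, SymplecticGroup.det_eq_one hmem]
          exact isUnit_one
        have h3 := congrArg Matrix.transpose h21
        simp [Matrix.J_transpose, Matrix.mul_assoc] at h3
        rw [← Matrix.mul_assoc] at h3
        have h4 := congrArg (fun X => (↑hu.unit⁻¹ : Matrix (Fin m ⊕ Fin m) (Fin m ⊕ Fin m) F) * X) h3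
        simp only [← Matrix.mul_assoc, Matrix.mul_zero] at h4
        rwa [Matrix.mul_assoc _ _ (Matrix.J (Fin m) F), IsUnit.val_inv_mul, Matrix.one_mul] at h4
      refine ⟨⟨_, hmem⟩, Subtype.ext (Units.ext ?_)⟩
      show Matrix.fromBlocks 1 0 0 G.toBlocks₂₂ = G
      conv_rhs => rw [hGe, h21']
  -- the quadratic form
  have hO : Nonempty (Cfsg.PGO F (Cfsg.quadFormOdd m F) ≃* ↥(Cfsg.isometryGroup F (Cfsg.quadFormOdd m F))) := by
    refine projQuot_equiv_of (fun g hg => ⟨1, fun v => ?_⟩) (fun g hg => ?_) fun g hg hs => ?_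
    · rw [Units.val_one, one_mul]; exact (Orth.mem_isometryGroup.1 hg) v
    · obtain ⟨c, hc⟩ := hg
      obtain ⟨s, hs⟩ := isSquare_all (c : F)
      have hs0 : s ≠ 0 := fun e => c.ne_zero (by rw [hs, e, zero_mul])
      refine ⟨_, ⟨(Units.mk0 s hs0)⁻¹, rfl⟩, Orth.mem_isometryGroup.2 fun v => ?_⟩
      rw [scalar_conj_smul, Matrix.smul_mulVec, ← Orth.coe_qOdd, QuadraticMap.map_smul, Orth.coe_qOdd,
        hc, hs, smul_eq_mul, Units.val_inv_eq_inv_val, Units.val_mk0]
      field_simp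
    · obtain ⟨a, ha⟩ := mem_scalars.1 hs
      refine Units.ext (ha.trans ?_)
      have h := Orth.mem_isometryGroup.1 hg (Pi.single (Sum.inl ()) 1)
      rw [ha, Matrix.smul_mulVec, Matrix.one_mulVec, ← Orth.coe_qOdd, QuadraticMap.map_smul,
        Orth.coe_qOdd, smul_eq_mul] at h
      have h1 : Cfsg.quadFormOdd m F (Pi.single (Sum.inl ()) 1) = 1 := by
        simp [Cfsg.quadFormOdd]
      rw [h1, mul_one] at h
      rw [sq_one_imp _ h, one_smul, Units.val_one]
  obtain ⟨eO⟩ := hO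
  let eQ : ↥(Cfsg.isometryGroup F (Cfsg.quadFormOdd m F)) ≃* ↥(Orth.oGroup (Orth.qOdd F m)) :=
    (MulEquiv.subgroupCongr (by rw [Orth.coe_qOdd])).trans (Orth.isoEquiv (Orth.qOdd F m))
  let eS : ↥(Matrix.symplecticGroup (Fin m) F) ≃* ↥(Orth.oGroup (Orth.qOdd F m)) :=
    Orth.spEquivPolar.trans (MulEquiv.ofBijective _ Orth.extHom_bijective)
  exact ⟨(e.trans (MulEquiv.ofBijective _ hbij).symm).trans
    ((eS.trans eQ.symm).trans eO.symm)⟩

end CharTwo

section DetOdd

/-- Determinants of symplectic similitudes. -/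
theorem detSub_J {m : ℕ} (hm : 0 < m) :
    detSub (Matrix.J (Fin m) F) = (powMonoidHom m : Fˣ →* Fˣ).range := by
  ext x
  constructor
  · rintro ⟨g, hg, rfl⟩
    obtain ⟨c, hc⟩ := mem_GSim.1 hg
    obtain ⟨D, hD, hdet⟩ := exists_mult_J (F := F) m c
    refine ⟨c, ?_⟩
    have hs : D⁻¹ * g ∈ Isom (Matrix.J (Fin m) F) := by
      have hD' : D ∈ GSim (Matrix.J (Fin m) F) := mem_GSim.2 ⟨c, hD⟩
      have h1 : (mult (J_ne_zero hm) ⟨D, hD'⟩)⁻¹ * mult (J_ne_zero hm) ⟨g, hg⟩ = 1 := by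
        rw [inv_mul_eq_one]
        exact Units.ext (smul_cancel (J_ne_zero hm)
          ((mult_spec (J_ne_zero hm) ⟨D, hD'⟩).symm.trans (hD.trans (hc.symm.trans
            (mult_spec (J_ne_zero hm) ⟨g, hg⟩)))))
      rw [← map_inv, ← map_mul] at h1
      have h2 := mult_spec (J_ne_zero hm) (⟨D, hD'⟩⁻¹ * ⟨g, hg⟩)
      rw [h1, Units.val_one, one_smul] at h2
      exact h2
    have h1 : Matrix.GeneralLinearGroup.det (D⁻¹ * g) = 1 :=
      Units.ext (SymplecticGroup.det_eq_one ((J_transpose_mem m _).1 hs))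
    rw [map_mul, map_inv, hdet, inv_mul_eq_one] at h1
    rw [powMonoidHom_apply, h1]
  · rintro ⟨c, rfl⟩
    obtain ⟨D, hD, hdet⟩ := exists_mult_J (F := F) m c
    exact ⟨D, mem_GSim.2 ⟨c, hD⟩, hdet⟩

theorem det_mult {A : Matrix ι ι F} (hA : A.det ≠ 0) {g : GL ι F} {c : Fˣ}
    (hc : (g : Matrix ι ι F)ᵀ * A * (g : Matrix ι ι F) = (c : F) • A) :
    Matrix.GeneralLinearGroup.det g ^ 2 = c ^ Fintype.card ι := by
  have e := congrArg Matrix.det hc
  rw [Matrix.det_mul, Matrix.det_mul, Matrix.det_transpose, Matrix.det_smul] at e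
  refine Units.ext (mul_right_cancel₀ hA ?_)
  simp only [Units.val_pow_eq_pow_val, Matrix.GeneralLinearGroup.val_det_apply]
  linear_combination e

/-- Determinants when all multipliers are squares. -/
theorem detSub_square [Finite F] {A : Matrix ι ι F} (hA : A.det ≠ 0)
    (h : Odd (Fintype.card ι) ∨ CharP F 2) :
    detSub A = (powMonoidHom (Fintype.card ι) : Fˣ →* Fˣ).range := by
  ext x
  constructor
  · rintro ⟨g, hg, rfl⟩
    obtain ⟨c, hc⟩ := mem_GSim.1 hg
    have hd := det_mult hA hc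
    obtain ⟨s, hs⟩ : ∃ s : Fˣ, c = s ^ 2 := by
      rcases h with hodd | h
      · obtain ⟨j, hj⟩ := hodd
        refine ⟨Matrix.GeneralLinearGroup.det g * (c ^ j)⁻¹, ?_⟩
        rw [mul_pow, hd, hj, pow_succ, inv_pow, ← pow_mul, mul_comm j 2,
          mul_comm (c ^ (2 * j)) c, mul_inv_cancel_right]
      · haveI := h
        obtain ⟨s, hs⟩ := isSquare_all (c : F)
        exact ⟨Units.mk0 s fun e => c.ne_zero (by rw [hs, e, zero_mul]),
          Units.ext (by simp only [Units.val_pow_eq_pow_val, Units.val_mk0, pow_two]; exact hs)⟩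
    rw [hs, ← pow_mul, mul_comm, pow_mul] at hd
    have hd' := congrArg Units.val hd
    simp only [Units.val_pow_eq_pow_val] at hd'
    rcases sq_eq_sq_iff_eq_or_eq_neg.1 hd' with e | e
    · exact ⟨s, Units.ext (by rw [powMonoidHom_apply, Units.val_pow_eq_pow_val, e])⟩
    · rcases h with hodd | h
      · refine ⟨-s, Units.ext ?_⟩
        rw [powMonoidHom_apply, Units.val_pow_eq_pow_val, Units.val_neg, hodd.neg_pow, e]
      · haveI := h
        exact ⟨s, Units.ext (by rw [powMonoidHom_apply, Units.val_pow_eq_pow_val, e, CharTwo.neg_eq])⟩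
  · rintro ⟨a, rfl⟩
    refine ⟨_, scalar_mem_gsim A a, Units.ext ?_⟩
    show (Matrix.scalar ι (a : F)).det = _
    simp

variable [Finite F]

theorem exists_mult_symm (h2 : (2 : F) ≠ 0) [Nonempty ι] (heven : Even (Fintype.card ι))
    {A : Matrix ι ι F} (hu : IsUnit A) (hA : Aᵀ = A) (c : Fˣ) :
    ∃ g : GL ι F, (g : Matrix ι ι F)ᵀ * A * (g : Matrix ι ι F) = (c : F) • A := by
  have hu' : IsUnit ((c : F) • A) := by
    rw [Matrix.isUnit_iff_isUnit_det, Matrix.det_smul]
    exact (c.isUnit.pow _).mul ((Matrix.isUnit_iff_isUnit_det _).1 hu)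
  obtain ⟨j, hj⟩ := heven
  obtain ⟨P, Q, h1, h2', h3⟩ := exists_congr_of_det h2 rfl hu hA hu' (by rw [Matrix.transpose_smul, hA])
    ⟨(c : F) ^ j * A.det, by rw [Matrix.det_smul, hj]; ring⟩
  exact ⟨⟨P, Q, h1, h2'⟩, h3⟩

theorem exists_isom_neg (h2 : (2 : F) ≠ 0) [Nonempty ι] {A : Matrix ι ι F} (hu : IsUnit A) (hA : Aᵀ = A) :
    ∃ g : GL ι F, g ∈ Isom A ∧ Matrix.GeneralLinearGroup.det g = -1 := by
  classical
  obtain ⟨i₀⟩ := ‹Nonempty ι›
  let D : Matrix ι ι F := Matrix.diagonal fun i => if i = i₀ then A.det else 1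
  have hAd : A.det ≠ 0 := ((Matrix.isUnit_iff_isUnit_det _).1 hu).ne_zero
  have hD : D.det = A.det := by simp [D]
  obtain ⟨P, Q, h1, h2', h3⟩ := exists_congr_of_det h2 rfl hu hA
    (by rw [Matrix.isUnit_iff_isUnit_det, hD]; exact (Matrix.isUnit_iff_isUnit_det _).1 hu)
    (Matrix.diagonal_transpose _) ⟨A.det, by rw [hD]⟩
  let S : Matrix ι ι F := Matrix.diagonal fun i => if i = i₀ then -1 else 1
  have hSS : S * S = 1 := by
    rw [Matrix.diagonal_mul_diagonal, ← Matrix.diagonal_one]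
    congr 1; funext i; split_ifs <;> simp
  have hR : P * S * Q * (P * S * Q) = 1 := by
    calc P * S * Q * (P * S * Q) = P * (S * (Q * P) * S) * Q := by simp only [Matrix.mul_assoc]
      _ = 1 := by rw [h2', Matrix.mul_one, hSS, Matrix.mul_one, h1]
  refine ⟨⟨P * S * Q, P * S * Q, hR, hR⟩, ?_, Units.ext ?_⟩
  · rw [mem_Isom]
    show (P * S * Q)ᵀ * A * (P * S * Q) = A
    calc (P * S * Q)ᵀ * A * (P * S * Q) = Qᵀ * (Sᵀ * (Pᵀ * A * P) * S) * Q := by
          simp only [transpose_mul, Matrix.mul_assoc]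
      _ = Qᵀ * (Pᵀ * A * P) * Q := by
          rw [h3]
          congr 2
          rw [Matrix.diagonal_transpose, Matrix.diagonal_mul_diagonal, Matrix.diagonal_mul_diagonal]
          congr 1; funext i; split_ifs <;> simp
      _ = (P * Q)ᵀ * A * (P * Q) := by simp only [transpose_mul, Matrix.mul_assoc]
      _ = A := by rw [h1]; simp
  · show (P * S * Q).det = ((-1 : Fˣ) : F)
    rw [Matrix.det_mul, Matrix.det_mul, mul_right_comm, ← Matrix.det_mul, h1, Matrix.det_one, one_mul]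
    simp [S]

/-- Determinants of orthogonal similitudes in even dimension. -/
theorem detSub_symm (h2 : (2 : F) ≠ 0) [Nonempty ι] (heven : Even (Fintype.card ι)) {A : Matrix ι ι F}
    (hu : IsUnit A) (hA : Aᵀ = A) :
    detSub A = (powMonoidHom (Fintype.card ι) : Fˣ →* Fˣ).range.comap (powMonoidHom 2) := by
  have hAd : A.det ≠ 0 := ((Matrix.isUnit_iff_isUnit_det _).1 hu).ne_zero
  ext x
  constructor
  · rintro ⟨g, hg, rfl⟩
    obtain ⟨c, hc⟩ := mem_GSim.1 hg
    exact ⟨c, (det_mult hAd hc).symm⟩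
  · rintro ⟨c, hc⟩
    simp only [powMonoidHom_apply] at hc
    obtain ⟨g, hg⟩ := exists_mult_symm h2 heven hu hA c
    have hd := det_mult hAd hg
    rw [hc] at hd
    have hd' := congrArg Units.val hd
    simp only [Units.val_pow_eq_pow_val] at hd'
    rcases sq_eq_sq_iff_eq_or_eq_neg.1 hd' with e | e
    · exact ⟨g, mem_GSim.2 ⟨c, hg⟩, Units.ext e⟩
    · obtain ⟨r, hr, hrd⟩ := exists_isom_neg h2 hu hA
      refine ⟨r * g, mul_mem (isom_le A hr) (mem_GSim.2 ⟨c, hg⟩), ?_⟩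
      rw [map_mul, hrd]
      refine Units.ext ?_
      rw [Units.val_mul, Units.val_neg, Units.val_one, e]
      ring

theorem card_quot_comap_sq (h2 : (2 : F) ≠ 0) {n : ℕ} (hn : Even n) :
    Nat.card (Fˣ ⧸ (powMonoidHom n : Fˣ →* Fˣ).range.comap (powMonoidHom 2)) =
      Nat.gcd n (Nat.card F - 1) / 2 := by
  haveI := Fintype.ofFinite F
  rw [← Subgroup.index_eq_card, Subgroup.index_comap]
  have hle : (powMonoidHom n : Fˣ →* Fˣ).range ≤ (powMonoidHom 2 : Fˣ →* Fˣ).range := by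
    rintro _ ⟨a, rfl⟩
    obtain ⟨j, rfl⟩ := hn
    exact ⟨a ^ j, by rw [powMonoidHom_apply, powMonoidHom_apply, ← pow_mul, mul_two]⟩
  have h := Subgroup.relIndex_mul_index hle
  have hidx : ∀ k, (powMonoidHom k : Fˣ →* Fˣ).range.index = Nat.gcd k (Nat.card F - 1) := fun k => by
    rw [Subgroup.index_eq_card, AutPSL.card_quotient_powMonoidHom rfl, Nat.card_eq_fintype_card]
  rw [hidx, hidx] at h
  have hodd : 2 ∣ Nat.card F - 1 := by
    rw [Nat.card_eq_fintype_card]
    have := FiniteField.odd_card_of_char_ne_two (F := F) fun e => h2 (by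
      haveI := ringChar.of_eq e; exact CharTwo.two_eq_zero)
    exact Nat.dvd_of_mod_eq_zero (by omega)
  rw [Nat.gcd_eq_left hodd] at h
  omega

end DetOdd

end Cfsg.Agent.SimForms
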